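import Cfsg.Agent.Mrg.Omega.NO3b.K0.Mix.Pan
import Cfsg.Agent.Mrg.Omega.NOne.Flat.Off
import Cfsg.Agent.Mrg.Omega.NOne.LemmaT
import Cfsg.Agent.Mrg.Omega.NO3b.EZeroBase
import Cfsg.Agent.Mrg.Omega.NO3b.Exit.Bridge

-- merged: Cfsg.Agent.Mrg.Omega.NO3b.BetaTwo.Def
section

section


/-!
# THEOREM BETA2 (bb #20914), part 1: the frame, the gallery

`Pan V F T X L Q0` a panel with `NoOv X`, `SM V X`, `Two V X`; `Flat.Hyp V' F₁`, `W = WW V' F₁ ≤ Q0`, `W ≰ O₂(X)`,
`⟨V^X⟩ ≤ V'`, the lines are good (`Bt`).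

* `comm_of_le` : THE MUTUAL PAIR (K0P);
* `Bt.le_E` (G1) : a line in `V'` which meets `F₁` is in `E = EE V' F₁`;
* `BB V X F₁ = ⟨U^y | y ∈ C_G(F₁)⟩`, `U = ⟨V^X⟩`; `Bt.B_comm`, `Bt.B_le_W` (1);
* `Bt.exists_gal` (2) : the critical panel `X^h`.
-/

set_option autoImplicit false

namespace Cfsg.Agent.Omega.NO3b.BetaTwo

open Subgroup Cfsg Cfsg.Agent.ZN Cfsg.Agent.ZN.ChoiceBase
open Cfsg.Agent.ZN.ChoiceSit (Syl exists_syl syl_conj o2_le_syl)
open Cfsg.Agent.MinSimple.VModule (oddGen)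
open Cfsg.Agent.Omega.NO3b.EZero
open Cfsg.Agent.Omega.NO3b.K0 (NoOv cj_of_le cj_self cj_bot')
open Cfsg.Agent.Omega.NO3b.K0.Mix (Pan SM Two Crit)
open Cfsg.Agent.Omega.NOne.Flat (EE WW NN Bad)
open Cfsg.Agent.Omega.NOne.NearFF (c)

universe u

variable {G : Type u} [Group G]

/-- no over-offenders in `X` on `⟨V^X⟩` -/
def NoOver (V X : Subgroup G) : Prop :=
  ∀ A : Subgroup G, A ≤ X → (∀ a ∈ A, a ^ 2 ∈ centralizer (cl V X : Set G)) →
    (∀ a ∈ A, ∀ b ∈ A, a * b * a⁻¹ * b⁻¹ ∈ centralizer (cl V X : Set G)) →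
      (centralizer (cl V X : Set G)).relIndex A ≤ (centralizer (A : Set G)).relIndex (cl V X)

/-- The frame. -/
structure Bt [Finite G] (V F T X L Q0 V' F₁ : Subgroup G) : Prop where
  pan : Pan V F T X L Q0
  noov : NoOv X
  sm : SM V X
  two : Two V X
  hno : NoOver V X
  hy : NOne.Flat.Hyp V' F₁
  hoff : ∀ E0 : Subgroup G, F₁ ≤ E0 → E0 ≤ EE V' F₁ →
    F₁.relIndex E0 ≤ (centralizer (E0 : Set G)).relIndex (WW V' F₁)
  good : ∀ (g : G) (D : Subgroup G), D ≤ cj g V → D ≠ ⊥ → cj g V ≤ o2 (centralizer (D : Set G))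
  WQ : WW V' F₁ ≤ Q0
  WX : ¬ WW V' F₁ ≤ o2 X
  UV : cl V X ≤ V'

/-- `B = ⟨U^y | y ∈ C_G(F₁)⟩` -/
def BB (V X F₁ : Subgroup G) : Subgroup G := cl (cl V X) (centralizer (F₁ : Set G))

/-! ### (K0P) -/

section pair

variable [Finite G] {V F T X L Q0 : Subgroup G} (p : Pan V F T X L Q0) (hX : NoOv X) (hs : SM V X) (h2 : Two V X)
include p hX hs h2

theorem crit_false {g : G} (k : Crit V X X Q0 g) : False := by
  have h3 := k.two_mul_le p p hX h2 hs hs
  have h4 := k.inv.two_mul_le p p hX h2 hs hs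
  have e1 : (o2 X).relIndex (cj g⁻¹ (cl V X)) = (cj g (o2 X)).relIndex (cl V X) := by
    rw [← relIndex_cj g, cj_cj_inv]
  have e2 : (cj g⁻¹ (o2 X)).relIndex (cl V X) = (o2 X).relIndex (cj g (cl V X)) := by
    rw [← relIndex_cj g, cj_cj_inv]
  rw [e1, e2] at h4
  have h5 : 0 < (o2 X).relIndex (cj g (cl V X)) := Nat.pos_of_ne_zero index_ne_zero_of_finite
  omega

/-- **(K0P)** -/
theorem comm_of_le {a b : G} (h1 : cj a (cl V X) ≤ cj b Q0) (h3 : cj b (cl V X) ≤ cj a Q0) :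
    cj a (cl V X) ≤ centralizer ((cj b (cl V X) : Subgroup G) : Set G) := by
  by_contra hcon
  refine crit_false p hX hs h2 (g := a⁻¹ * b) ⟨fun h0 => hcon ?_, ?_, ?_⟩
  · have h4 := cj_cent (g := a) h0
    rwa [cj_cj, mul_inv_cancel_left] at h4
  · rw [← cj_cj, ← cj_le_iff]
    exact h1
  · rw [← cj_cj, cj_le_iff, inv_inv]
    exact h3

end pair

namespace Bt

variable [Finite G] {V F T X L Q0 V' F₁ : Subgroup G} (t : Bt V F T X L Q0 V' F₁)
include t

/-- `V ≤ F₁` -/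
theorem V_le_F₁ : V ≤ F₁ := by
  rw [← t.hy.cent_VW]
  exact le_inf ((le_cl V X).trans t.UV) (cent_symm (t.WQ.trans t.pan.Q0_cent))

omit [Finite G] t in
theorem conj_W' {y : G} (hy : y ∈ centralizer (F₁ : Set G)) : cj y (WW V' F₁) = WW V' F₁ :=
  NOne.Flat.Hyp.conj_W hy

omit [Finite G] t in
theorem conjE_le_W' {y : G} (hy : y ∈ centralizer (F₁ : Set G)) : cj y (EE V' F₁) ≤ WW V' F₁ :=
  NOne.Flat.Hyp.conjE_le_W hy

theorem V'_le_X' : V' ≤ centralizer (F₁ : Set G) := t.hy.V_le_X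

/-- **(G1)** a line in `V'` which meets `F₁` is in `E`. -/
theorem le_E {g : G} (h1 : cj g V ≤ V') (h2 : cj g V ⊓ F₁ ≠ ⊥) : cj g V ≤ EE V' F₁ := by
  refine le_inf h1 ?_
  set R := o2 (centralizer ((cj g V ⊓ F₁ : Subgroup G) : Set G)) with hR
  have h3 : cj g V ≤ R := t.good g _ inf_le_left h2
  have h4 : centralizer (F₁ : Set G) ≤ centralizer ((cj g V ⊓ F₁ : Subgroup G) : Set G) :=
    centralizer_le inf_le_right
  have h5 : R ⊓ centralizer (F₁ : Set G) ≤ o2 (centralizer (F₁ : Set G)) := by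
    refine ChoiceSit.le_o2 ((ChoiceSit.isPGroup_o2 _).to_le inf_le_left) inf_le_right ?_
    intro x hx
    rw [mem_normalizer_iff_cj, cj_inf, cj_eq_of_mem_normalizer (Subgroup.le_normalizer hx),
      cj_eq_of_mem_normalizer (ChoiceSit.le_normalizer_o2 _ (h4 hx))]
  exact (le_inf h3 (h1.trans t.V'_le_X')).trans h5

/-- the lines on `X` are in `E` -/
theorem line_le_E {x : G} (hx : x ∈ X) : cj x V ≤ EE V' F₁ := by
  refine t.le_E ((cj_le_cl hx).trans t.UV) fun h0 => t.pan.F_ne_bot ?_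
  rw [← le_bot_iff, ← h0]
  exact le_inf (t.pan.F_le_line hx) (t.pan.F_le.trans t.V_le_F₁)

theorem U_le_E : cl V X ≤ EE V' F₁ := cl_le fun _ hx => t.line_le_E hx

theorem U_le_W : cl V X ≤ WW V' F₁ := t.U_le_E.trans NOne.Flat.Hyp.E_le_W

theorem cjU_le_W {y : G} (hy : y ∈ centralizer (F₁ : Set G)) : cj y (cl V X) ≤ WW V' F₁ :=
  (cj_mono y t.U_le_E).trans (conjE_le_W' hy)

/-- `W ≤ Q0^y` -/
theorem W_le_cj {y : G} (hy : y ∈ centralizer (F₁ : Set G)) : WW V' F₁ ≤ cj y Q0 := by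
  have h1 := cj_mono y t.WQ
  rwa [conj_W' hy] at h1

/-! ### (1) -/

theorem cjU_comm {y z : G} (hy : y ∈ centralizer (F₁ : Set G)) (hz : z ∈ centralizer (F₁ : Set G)) :
    cj y (cl V X) ≤ centralizer ((cj z (cl V X) : Subgroup G) : Set G) :=
  comm_of_le t.pan t.noov t.sm t.two ((t.cjU_le_W hy).trans (t.W_le_cj hz)) ((t.cjU_le_W hz).trans (t.W_le_cj hy))

theorem B_comm : BB V X F₁ ≤ centralizer (BB V X F₁ : Set G) :=
  cl_le fun _ hy => cent_symm (cl_le fun _ hz => t.cjU_comm hz hy)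

theorem B_le_W : BB V X F₁ ≤ WW V' F₁ := cl_le fun _ hy => t.cjU_le_W hy

omit [Finite G] t in
theorem X'_norm_B : centralizer (F₁ : Set G) ≤ normalizer (BB V X F₁ : Set G) := le_normalizer_cl _ _

omit [Finite G] t in
theorem U_le_B : cl V X ≤ BB V X F₁ := le_cl _ _

theorem cjU_sq (y : G) : ∀ u ∈ cj y (cl V X), u ^ 2 = 1 := by
  intro v hv
  have h1 := t.pan.U_sq _ (mem_cj.1 hv)
  have e : v ^ 2 = y * (y⁻¹ * v * y) ^ 2 * y⁻¹ := by rw [pow_two, pow_two]; group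
  rw [e, h1]; group

theorem B_sq : ∀ b ∈ BB V X F₁, b ^ 2 = 1 :=
  sq_of_comm t.B_comm (fun i : centralizer (F₁ : Set G) => cj_le_cl i.2) le_rfl fun i => t.cjU_sq i

theorem isPGroup_B : IsPGroup 2 (BB V X F₁) := fun x => ⟨1, Subtype.ext (by simpa using t.B_sq x x.2)⟩

/-! ### (2) -/

/-- the step of the gallery -/
theorem gal_step {h : G} (hB : BB V X F₁ ≤ cj h Q0) (hE : cj h (cl V X) ≤ EE V' F₁) {x : G} (hx : x ∈ X) :
    BB V X F₁ ≤ cj (h * x) Q0 := by
  have h1 : BB V X F₁ ≤ centralizer ((cj h (cl V X) : Subgroup G) : Set G) := by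
    refine cl_le fun y hy => ?_
    exact comm_of_le t.pan t.noov t.sm t.two ((cj_le_cl hy).trans hB)
      ((hE.trans NOne.Flat.Hyp.E_le_W).trans (t.W_le_cj hy))
  have h2 : BB V X F₁ ≤ cj h (o2 X) := t.pan.le_cj_o2 t.isPGroup_B (hB.trans (cj_mono h t.pan.Q0_X)) h1
  have h3 : cj h (o2 X) = cj (h * x) (o2 X) := by
    rw [← cj_cj, cj_of_le (ChoiceSit.le_normalizer_o2 X) hx]
  rw [h3] at h2
  refine t.pan.le_cj_Q0_of t.isPGroup_B (h2.trans (cj_mono _ (t.pan.o2_le_T.trans t.pan.T_le))) ?_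
  refine h1.trans (centralizer_le ?_)
  rw [← cj_cj]
  exact cj_mono h (cj_le_cl hx)

/-- **(2)** the critical panel -/
theorem exists_gal {H : Subgroup G} (hH : H ≤ L ⊔ X) (hLH : L ≤ H) (hXH : X ≤ H)
    (hE : ¬ cl V H ≤ EE V' F₁) :
    ∃ h ∈ H, BB V X F₁ ≤ cj h Q0 ∧ ¬ cj h (cl V X) ≤ EE V' F₁ := by
  by_contra hcon
  push Not at hcon
  apply hE
  have h0 : BB V X F₁ ≤ cj 1 Q0 := by
    rw [cj_one]; exact t.B_le_W.trans t.WQ
  have key : ∀ h ∈ H, BB V X F₁ ≤ cj h Q0 := by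
    intro h hh
    have hh' := hH hh
    have hcl : L ⊔ X = closure ((L : Set G) ∪ (X : Set G)) := by
      rw [Subgroup.closure_union, closure_eq, closure_eq]
    rw [hcl] at hh'
    have h1 : h ∈ H ∧ BB V X F₁ ≤ cj h Q0 := by
      induction hh' using Subgroup.closure_induction_right with
      | one => exact ⟨one_mem _, h0⟩
      | mul_right a _ b hb ih =>
        have ih' := ih (by
          rcases hb with hb | hb
          · have := mul_mem hh (inv_mem (hLH hb))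
            rwa [mul_inv_cancel_right] at this
          · have := mul_mem hh (inv_mem (hXH hb))
            rwa [mul_inv_cancel_right] at this)
        refine ⟨hh, ?_⟩
        rcases hb with hb | hb
        · rw [← cj_cj, t.pan.cj_Q0 hb]
          exact ih'.2
        · exact t.gal_step ih'.2 (hcon a ih'.1 ih'.2) hb
      | mul_inv_cancel a _ b hb ih =>
        have ih' := ih (by
          rcases hb with hb | hb
          · have := mul_mem hh (hLH hb)
            rwa [inv_mul_cancel_right] at this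
          · have := mul_mem hh (hXH hb)
            rwa [inv_mul_cancel_right] at this)
        refine ⟨hh, ?_⟩
        rcases hb with hb | hb
        · rw [← cj_cj, t.pan.cj_Q0 (inv_mem hb)]
          exact ih'.2
        · exact t.gal_step ih'.2 (hcon a ih'.1 ih'.2) (inv_mem hb)
    exact h1.2
  exact cl_le fun h hh => (cj_mono h (le_cl V X)).trans (hcon h hh (key h hh))

end Bt

end Cfsg.Agent.Omega.NO3b.BetaTwo

end

section


/-!
# THEOREM BETA2 (#20914, helper235), (3) and (4)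

The situation of THEOREM FLAT: `Hyp V F` (`V` of the text: `V'`, `F`: `F₁`), `E = EE V F`, `W = WW V F`, `N = NN V F`,
`X = C_G(F)`.  `B ≤ W` is normal in `X` (`BN V F B`), `A₀ = V ∩ B`.

* `BN.c_mem` : `[V, B] ≤ A₀`; `BN.A_le_E`;
* `BN.relIndex_eq` : **(3)** `|B : B ∩ N| = |A₀ : A₀ ∩ F|`; `BN.surj` : `[w, B] F = A₀ F` for every `w ∈ V - E`;
* `BN.no_line` : **(4)** a subgroup `l ≤ V`, `l ≰ E`, `l ∩ F = 1`, which is not FF, is not normalised by `B`, if
  `B ≰ N` is elementary abelian.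
-/

set_option autoImplicit false

namespace Cfsg.Agent.Omega.NO3b.BetaTwo

open Subgroup Cfsg
open Cfsg.Agent.ZN (o2)
open Cfsg.Agent.Omega.NOne.Flat Cfsg.Agent.Omega.NoFF.Basic Cfsg.Agent.Omega.NOne.Frame
open Cfsg.Agent.Omega.NOne.NearFF (c)
open Cfsg.Agent.Omega.NO3b.EZero (NotFF)
open scoped Pointwise

universe u

variable {G : Type u} [Group G]

/-- `B ≤ W` is normal in `C_G(F)`. -/
structure BN (V F B : Subgroup G) : Prop where
  le : B ≤ WW V F
  norm : centralizer (F : Set G) ≤ normalizer (B : Set G)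

namespace BN

variable {V F B : Subgroup G} (b : BN V F B) (h : Hyp V F)
include b h

/-- `[V, B] ≤ A₀` -/
theorem c_mem {w s : G} (hw : w ∈ V) (hs : s ∈ B) : c w s ∈ V ⊓ B := by
  refine ⟨h.c_memV hw (b.le hs), ?_⟩
  have h1 : w * s * w⁻¹ ∈ B := (mem_normalizer_iff.1 (b.norm (h.V_le_X hw)) s).1 hs
  exact B.mul_mem h1 (B.inv_mem hs)

omit h in
theorem A_le_E : V ⊓ B ≤ EE V F := le_inf inf_le_left (inf_le_right.trans (b.le.trans Hyp.W_le_R))

variable [Finite G]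

/-- `s ↦ [w, s]` -/
theorem cos {w : G} (hw : w ∈ V) (hwE : w ∉ EE V F) : Cos (c w) B (NN V F) (V ⊓ B) F where
  mem := fun _ hs => b.c_mem h hw hs
  iff := fun a ha s hs => by
    rw [h.c_iff hw (b.le ha) (b.le hs), h.c_mem_F_iff hw hwE (mul_mem (inv_mem (b.le ha)) (b.le hs))]

/-- `|A₀ : A₀ ∩ F| ≤ |B : B ∩ N|` -/
theorem le_relIndex : F.relIndex (V ⊓ B) ≤ (NN V F).relIndex B := by
  obtain ⟨w, hw, hwE⟩ := h.exists_not_mem
  obtain ⟨x, hx, hb, -⟩ := h.exists_near hw hwE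
  have h1 : MulAut.conj x • (V ⊓ B) ≤ B := by
    intro y hy
    rw [mem_conj] at hy
    have h2 := (mem_normalizer_iff.1 (b.norm hx) _).1 hy.2
    have e : x * (x⁻¹ * y * x) * x⁻¹ = y := by group
    rwa [e] at h2
  have h2 : NN V F ⊓ MulAut.conj x • (V ⊓ B) ≤ F :=
    le_trans (le_inf (inf_le_right.trans (conj_le_iff.2 b.A_le_E)) inf_le_left) (h.conjE_inf_NN hx hb).le
  have h3 : F.relIndex (MulAut.conj x • (V ⊓ B)) = F.relIndex (V ⊓ B) := by
    have h4 : (MulAut.conj x • F).relIndex (MulAut.conj x • (V ⊓ B)) = F.relIndex (V ⊓ B) :=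
      relIndex_map_map_of_injective F (V ⊓ B) (MulAut.conj x).injective
    rwa [conj_eq_of_cent hx] at h4
  calc F.relIndex (V ⊓ B) = F.relIndex (MulAut.conj x • (V ⊓ B)) := h3.symm
    _ ≤ (NN V F ⊓ MulAut.conj x • (V ⊓ B)).relIndex (MulAut.conj x • (V ⊓ B)) :=
      relIndex_le_of_le_left h2 index_ne_zero_of_finite
    _ = (NN V F).relIndex (MulAut.conj x • (V ⊓ B)) := inf_relIndex_right _ _
    _ ≤ (NN V F).relIndex B := relIndex_le_of_le_right h1 index_ne_zero_of_finite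

/-- **(3)** `|B : B ∩ N| = |A₀ : A₀ ∩ F|` -/
theorem relIndex_eq : (NN V F).relIndex B = F.relIndex (V ⊓ B) := by
  obtain ⟨w, hw, hwE⟩ := h.exists_not_mem
  exact le_antisymm (b.cos h hw hwE).le (b.le_relIndex h)

/-- **(3)** `[w, B] F = A₀ F` for `w ∈ V - E` -/
theorem surj {w : G} (hw : w ∈ V) (hwE : w ∉ EE V F) {r : G} (hr : r ∈ V ⊓ B) :
    ∃ s ∈ B, (c w s)⁻¹ * r ∈ F := (b.cos h hw hwE).surj (b.le_relIndex h) hr

/-- `w ↦ [w, s]` for `s ∈ B - N`, on `l ≤ V` -/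
theorem cos' {l : Subgroup G} (hl : l ≤ V) {s : G} (hs : s ∈ B) (hsN : s ∉ NN V F) :
    Cos (fun w => c w s) l (EE V F) (V ⊓ B) F where
  mem := fun _ hw => b.c_mem h (hl hw) hs
  iff := fun w hw w' hw' => by
    have h1 : (c w s)⁻¹ * c w' s = c (w⁻¹ * w') s := by
      rw [h.c_mul_left (inv_mem (hl hw)) (hl hw') (b.le hs), h.inv (hl hw), h.inv (h.c_memV (hl hw) (b.le hs))]
    rw [h1]
    have hm : w⁻¹ * w' ∈ V := hl (mul_mem (inv_mem hw) hw')
    constructor
    · intro h2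
      by_contra h3
      exact hsN ((h.c_mem_F_iff hm h3 (b.le hs)).1 h2)
    · exact fun h2 => h.comm_EW h2 (b.le hs)

/-- `|l : l ∩ E| ≤ |A₀ : A₀ ∩ F|` for `l ≤ V` -/
theorem relIndex_le {l : Subgroup G} (hl : l ≤ V) (hBN : ¬ B ≤ NN V F) :
    (EE V F).relIndex l ≤ F.relIndex (V ⊓ B) := by
  obtain ⟨s, hs, hsN⟩ := SetLike.not_le_iff_exists.1 hBN
  exact (b.cos' h hl hs hsN).le

/-- **(4)** a subgroup `l ≤ V`, `l ≰ E`, `l ∩ F = 1`, not FF, is not normalised by `B`. -/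
theorem no_line {l : Subgroup G} (hl : l ≤ V) (hlE : ¬ l ≤ EE V F) (hlF : l ⊓ F = ⊥) (hnff : NotFF l)
    (hBN : ¬ B ≤ NN V F) (hB2 : ∀ s ∈ B, s ^ 2 = 1) (hBc : B ≤ centralizer (B : Set G)) :
    ¬ B ≤ normalizer (l : Set G) := by
  intro hn
  -- `[w, s] ∈ l`
  have hcl : ∀ w ∈ l, ∀ s ∈ B, c w s ∈ l := by
    intro w hw s hs
    have h1 : s * w⁻¹ * s⁻¹ ∈ l := (mem_normalizer_iff.1 (hn hs) _).1 (inv_mem hw)
    have e : c w s = w * (s * w⁻¹ * s⁻¹) := by rw [c]; group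
    rw [e]
    exact mul_mem hw h1
  have hone : ∀ {w s : G}, c w s = 1 → w * s = s * w := by
    intro w s h1
    rw [c] at h1
    exact mul_inv_eq_iff_eq_mul.1 (mul_inv_eq_one.1 h1)
  have hlF' : ∀ x ∈ l, x ∈ F → x = 1 := by
    intro x hx hxF
    have h1 : x ∈ l ⊓ F := ⟨hx, hxF⟩
    rwa [hlF, mem_bot] at h1
  -- `C_B(l) ≤ N`
  have h1 : centralizer (l : Set G) ⊓ B ≤ NN V F := by
    rintro s ⟨hs1, hs2⟩
    obtain ⟨w, hw, hwE⟩ := SetLike.not_le_iff_exists.1 hlE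
    refine (h.c_mem_F_iff (hl hw) hwE (b.le hs2)).1 ?_
    have h2 : c w s = 1 := by
      rw [c, mem_centralizer_iff.1 hs1 w hw, mul_inv_cancel_right, mul_inv_cancel]
    rw [h2]
    exact one_mem _
  have hBl : ¬ B ≤ centralizer (l : Set G) := fun h2 => hBN ((le_inf h2 le_rfl).trans h1)
  have hP : IsPGroup 2 B := fun x => ⟨1, Subtype.ext (by simpa using hB2 x x.2)⟩
  have h2 := hnff B hP hn (fun s hs => by rw [hB2 s hs]; exact one_mem _) (fun s hs t ht => by
    have e : s * t = t * s := (mem_centralizer_iff.1 (hBc hs) t ht).symm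
    rw [e, mul_inv_cancel_right, mul_inv_cancel]; exact one_mem _) hBl
  have h3 : (centralizer (B : Set G)).relIndex l ≤ (EE V F).relIndex l := by
    rw [← inf_relIndex_right (EE V F), ← inf_relIndex_right (centralizer (B : Set G))]
    refine relIndex_le_of_le_left (le_inf ?_ inf_le_right) index_ne_zero_of_finite
    rintro w ⟨hwE, hwl⟩
    rw [mem_centralizer_iff]
    intro s hs
    exact (hone (hlF' _ (hcl w hwl s hs) (h.comm_EW hwE (b.le hs)))).symm
  have h4 : (NN V F).relIndex B ≤ (centralizer (l : Set G)).relIndex B := by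
    rw [← inf_relIndex_right (centralizer (l : Set G)), ← inf_relIndex_right (NN V F)]
    exact relIndex_le_of_le_left (le_inf h1 inf_le_right) index_ne_zero_of_finite
  have h5 := b.relIndex_le h hl hBN
  have h6 := b.le_relIndex h
  omega

end BN

/-! ### the frame `Bt` -/

namespace Bt

open Cfsg.Agent.ZN.ChoiceBase (cj cj_cj cj_mono)
open Cfsg.Agent.Omega.NO3b.EZero
open Cfsg.Agent.Omega.NO3b.K0 (cj_of_le)

variable [Finite G] {V F T X L Q0 V' F₁ : Subgroup G} (t : Bt V F T X L Q0 V' F₁)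
include t

theorem bn : BN V' F₁ (BB V X F₁) := ⟨t.B_le_W, X'_norm_B⟩

/-- **(3)** -/
theorem exists_B {w : G} (hw : w ∈ V') (hwE : w ∉ EE V' F₁) {r : G} (hr : r ∈ V' ⊓ BB V X F₁) :
    ∃ b ∈ BB V X F₁, c w b * r⁻¹ ∈ F₁ := by
  obtain ⟨s, hs, h1⟩ := t.bn.surj t.hy hw hwE hr
  refine ⟨s, hs, ?_⟩
  rwa [t.hy.inv (t.hy.c_memV hw (t.B_le_W hs)), ← t.hy.inv hr.1] at h1

/-- **(3)** -/
theorem relIndex_B : (NN V' F₁).relIndex (BB V X F₁) = F₁.relIndex (V' ⊓ BB V X F₁) := t.bn.relIndex_eq t.hy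

theorem B_nle : ¬ BB V X F₁ ≤ NN V' F₁ := by
  intro h0
  have h1 := t.relIndex_B
  rw [relIndex_eq_one.2 h0] at h1
  have h2 : V' ⊓ BB V X F₁ ≤ F₁ := relIndex_eq_one.1 h1.symm
  have h3 : cl V X ≤ F₁ := (le_inf t.UV U_le_B).trans h2
  have h4 : WW V' F₁ ≤ centralizer (cl V X : Set G) :=
    NOne.Flat.Hyp.W_le_X.trans (centralizer_le h3)
  exact t.WX (t.pan.le_o2_of_cent_U NOne.Flat.Hyp.W_isPGroup (t.WQ.trans t.pan.Q0_X) h4)

/-- **(4)** -/
theorem line {h : G} (_hB : BB V X F₁ ≤ cj h Q0) (hU : cj h (cl V X) ≤ V') {x : G} (hx : x ∈ X)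
    (hn : BB V X F₁ ≤ normalizer ((cj (h * x) V : Subgroup G) : Set G)) :
    BB V X F₁ ≤ centralizer ((cj (h * x) V : Subgroup G) : Set G) := by
  have h1 : cj (h * x) V ≤ V' := by
    rw [← cj_cj]
    exact (cj_mono h (cj_le_cl hx)).trans hU
  by_cases hE : cj (h * x) V ≤ EE V' F₁
  · refine cl_le fun y hy => ?_
    have h2 : cl V X ≤ centralizer ((cj (y⁻¹ * (h * x)) V : Subgroup G) : Set G) := by
      refine cent_symm (t.sm (y⁻¹ * (h * x)) ?_ ?_)
      · rw [← cj_cj]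
        exact ((cj_mono _ hE).trans (conjE_le_W' (inv_mem hy))).trans (t.WQ.trans t.pan.Q0_X)
      · have h3 := cj_norm (g := y⁻¹) hn
        rw [cj_of_le X'_norm_B (inv_mem hy), cj_cj] at h3
        exact U_le_B.trans h3
    have h3 := cj_cent (g := y) h2
    rwa [cj_cj, mul_inv_cancel_left] at h3
  · have hF : cj (h * x) V ⊓ F₁ = ⊥ := by
      by_contra h2
      exact hE (t.le_E h1 h2)
    exact absurd hn (t.bn.no_line t.hy h1 hE hF (t.pan.nff.cj _) t.B_nle t.B_sq t.B_comm)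

end Bt

end Cfsg.Agent.Omega.NO3b.BetaTwo

end

section


/-!
# THEOREM BETA2 (bb #20914), step (5): the count

* `step_prod` : the stepwise product: if `|D : C_D(Y_i)| ≤ |Y_i : C_{Y_i}(D)|` for all `D ≤ E` and `B = ⟨Y_i⟩`, then
  `|E : C_E(B)| ≤ |B : C_B(E)|`;
* `Bt.comm_mem_F` : `[U^h, B ∩ Q^h] ≤ F^h`;
* `Bt.two_le` : `|B : B ∩ Q^h|² ≤ |U^h : C(B)|`;
* **`Bt.count`** : `2 |B : B ∩ N| ≤ |V' : E|²`.
-/

set_option autoImplicit false

namespace Cfsg.Agent.Omega.NO3b.BetaTwo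

open Subgroup Cfsg Cfsg.Agent.ZN Cfsg.Agent.ZN.ChoiceBase
open Cfsg.Agent.ZN.ChoiceSit (Syl exists_syl syl_conj o2_le_syl)
open Cfsg.Agent.MinSimple.VModule (oddGen)
open Cfsg.Agent.Omega.NO3b.EZero
open Cfsg.Agent.Omega.NO3b.K0 (NoOv cj_of_le cj_self cj_bot' two_mul_le_of_lt two_le_of_ne cent_sup conj_mem')
open Cfsg.Agent.Omega.NO3b.K0.Mix (Pan SM Two Crit)
open Cfsg.Agent.Omega.NOne.Flat (EE WW NN Bad)
open Cfsg.Agent.Omega.NOne.NearFF (c c_def)
open scoped commutatorElement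

universe u v

variable {G : Type u} [Group G]

/-- **the stepwise product** -/
theorem step_prod [Finite G] {ι : Type v} {Y : ι → Subgroup G} {B E : Subgroup G} (hgen : B ≤ ⨆ i, Y i)
    (hYB : ∀ i, Y i ≤ B)
    (hno : ∀ i, ∀ D : Subgroup G, D ≤ E →
      (centralizer (Y i : Set G)).relIndex D ≤ (centralizer (D : Set G)).relIndex (Y i)) :
    (centralizer (B : Set G)).relIndex E ≤ (centralizer (E : Set G)).relIndex B := by
  let P : Subgroup G → Prop := fun K => B ⊓ centralizer (E : Set G) ≤ K ∧ K ≤ B ∧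
    (centralizer (K : Set G)).relIndex E ≤ (B ⊓ centralizer (E : Set G)).relIndex K
  have hP0 : P (B ⊓ centralizer (E : Set G)) := by
    refine ⟨le_rfl, inf_le_left, ?_⟩
    rw [relIndex_self, relIndex_eq_one.2 (cent_symm inf_le_right)]
  obtain ⟨K, hK, hmax⟩ := Set.exists_max_image {K : Subgroup G | P K} (fun K => Nat.card K)
    (Set.toFinite _) ⟨_, hP0⟩
  obtain ⟨hK1, hK2, hK3⟩ : P K := hK
  have hKB : B ≤ K := by
    refine hgen.trans (iSup_le fun i => ?_)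
    have hPK : P (K ⊔ Y i) := by
      refine ⟨hK1.trans le_sup_left, sup_le hK2 (hYB i), ?_⟩
      rw [cent_sup, ← relIndex_inf_mul_relIndex]
      have h1 := hno i (centralizer (K : Set G) ⊓ E) inf_le_right
      have h2 : (centralizer ((centralizer (K : Set G) ⊓ E : Subgroup G) : Set G)).relIndex (Y i) ≤
          K.relIndex (K ⊔ Y i) := by
        refine le_trans (relIndex_le_of_le_left (H := K) ?_ index_ne_zero_of_finite)
          (relIndex_le_of_le_right le_sup_right index_ne_zero_of_finite)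
        exact cent_symm inf_le_left
      have h3 := relIndex_mul_relIndex (B ⊓ centralizer (E : Set G)) K (K ⊔ Y i) hK1 le_sup_left
      rw [← h3, mul_comm ((B ⊓ centralizer (E : Set G)).relIndex K)]
      exact Nat.mul_le_mul (h1.trans h2) hK3
    have h4 := hmax _ hPK
    have h5 : K = K ⊔ Y i := eq_of_le_of_card_ge le_sup_left h4
    exact le_sup_right.trans h5.ge
  have h6 : K = B := le_antisymm hK2 hKB
  rw [h6, inf_relIndex_left] at hK3
  exact hK3

theorem cj_cents (g : G) (A : Subgroup G) :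
    cj g (centralizer (A : Set G)) = centralizer ((cj g A : Subgroup G) : Set G) := by
  apply le_antisymm
  · exact cj_cent le_rfl
  · have h1 : cj g⁻¹ (centralizer ((cj g A : Subgroup G) : Set G)) ≤ centralizer (A : Set G) := by
      have := cj_cent (g := g⁻¹) (A := centralizer ((cj g A : Subgroup G) : Set G)) (B := cj g A) le_rfl
      rwa [cj_inv_cj] at this
    rw [cj_le_iff, inv_inv] at h1
    exact h1

/-- no over-offenders on a conjugate -/
theorem noOver_cj {V X : Subgroup G} (h : NoOver V X) (y : G) {D : Subgroup G} (hD : D ≤ cj y X)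
    (h2 : ∀ a ∈ D, a ^ 2 = 1) (hc : D ≤ centralizer (D : Set G)) :
    (centralizer ((cj y (cl V X) : Subgroup G) : Set G)).relIndex D ≤
      (centralizer (D : Set G)).relIndex (cj y (cl V X)) := by
  have h1 := h (cj y⁻¹ D) (by rw [cj_le_iff, inv_inv]; exact hD) (fun a ha => by
    rw [mem_cj, inv_inv] at ha
    have h3 := h2 _ ha
    have e : a ^ 2 = y⁻¹ * (y * a * y⁻¹) ^ 2 * y := by rw [pow_two, pow_two]; group
    rw [e, h3, mul_one, inv_mul_cancel]
    exact one_mem _) (fun a ha b hb => by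
    rw [mem_cj, inv_inv] at ha hb
    have h3 := mem_centralizer_iff.1 (hc ha) _ hb
    have e : a * b * a⁻¹ * b⁻¹ = y⁻¹ * ((y * a * y⁻¹) * (y * b * y⁻¹) * (y * a * y⁻¹)⁻¹ * (y * b * y⁻¹)⁻¹) * y := by
      group
    rw [e, ← h3, mul_inv_cancel_right, mul_inv_cancel, mul_one, inv_mul_cancel]
    exact one_mem _)
  have e1 : (centralizer (cl V X : Set G)).relIndex (cj y⁻¹ D) =
      (centralizer ((cj y (cl V X) : Subgroup G) : Set G)).relIndex D := by
    rw [← relIndex_cj y, cj_cj_inv, cj_cents]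
  have e2 : (centralizer ((cj y⁻¹ D : Subgroup G) : Set G)).relIndex (cl V X) =
      (centralizer (D : Set G)).relIndex (cj y (cl V X)) := by
    rw [← relIndex_cj y, cj_cents, cj_cj_inv]
  rw [e1, e2] at h1
  exact h1

namespace Bt

variable [Finite G] {V F T X L Q0 V' F₁ : Subgroup G} (t : Bt V F T X L Q0 V' F₁)
include t

/-- `C_{V^{hx}}(w) ≤ F^h` for `w ∈ X^h - N(V^{hx})` -/
theorem cent_le_cj {h x w v : G} (hx : x ∈ X) (hw : w ∈ cj h X)
    (hn : w ∉ normalizer ((cj (h * x) V : Subgroup G) : Set G)) (hv : v ∈ cj (h * x) V) (hc : v * w = w * v) :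
    v ∈ cj h F := by
  rw [mem_cj]
  refine t.pan.cent_le (x := x) (w := h⁻¹ * w * h) hx (mem_cj.1 hw) (fun h0 => hn ?_) (v := h⁻¹ * v * h) ?_ ?_
  · have h1 := mem_normalizer_iff_cj.1 h0
    rw [mem_normalizer_iff_cj]
    have h2 := congrArg (cj h) h1
    rw [cj_cj, cj_cj, cj_cj] at h2
    rw [cj_cj]
    convert h2 using 2
    group
  · rw [← cj_cj, mem_cj] at hv
    exact hv
  · have e1 : h⁻¹ * v * h * (h⁻¹ * w * h) = h⁻¹ * (v * w) * h := by group
    have e2 : h⁻¹ * w * h * (h⁻¹ * v * h) = h⁻¹ * (w * v) * h := by group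
    rw [e1, e2, hc]

/-- `[U^h, B ∩ Q^h] ≤ F^h` -/
theorem comm_mem_F {h : G} (hB : BB V X F₁ ≤ cj h Q0) (hU : cj h (cl V X) ≤ V')
    (hline : ∀ x ∈ X, BB V X F₁ ≤ normalizer ((cj (h * x) V : Subgroup G) : Set G) →
      BB V X F₁ ≤ centralizer ((cj (h * x) V : Subgroup G) : Set G))
    {u e : G} (hu : u ∈ cj h (cl V X)) (he : e ∈ BB V X F₁) (heQ : e ∈ cj h (o2 X)) : ⁅u, e⁆ ∈ cj h F := by
  let K : Subgroup G :=
    { carrier := {u | u ∈ cj h (cl V X) ∧ ⁅u, e⁆ ∈ cj h F}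
      one_mem' := ⟨one_mem _, by rw [commutatorElement_one_left]; exact one_mem _⟩
      mul_mem' := by
        rintro a b ⟨ha, ha'⟩ ⟨hb, hb'⟩
        refine ⟨mul_mem ha hb, ?_⟩
        have e1 : ⁅a * b, e⁆ = (a * ⁅b, e⁆ * a⁻¹) * ⁅a, e⁆ := by
          simp only [commutatorElement_def]; group
        have hXF : cj h X ≤ centralizer ((cj h F : Subgroup G) : Set G) := cj_cent t.pan.X_le
        have h1 := mem_centralizer_iff.1 (hXF (cj_mono h t.pan.U_le_X ha)) _ hb'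
        rw [e1, ← h1, mul_inv_cancel_right]
        exact mul_mem hb' ha'
      inv_mem' := by
        rintro a ⟨ha, ha'⟩
        refine ⟨inv_mem ha, ?_⟩
        have e1 : ⁅a⁻¹, e⁆ = a⁻¹ * ⁅a, e⁆⁻¹ * a := by
          simp only [commutatorElement_def]; group
        have hXF : cj h X ≤ centralizer ((cj h F : Subgroup G) : Set G) := cj_cent t.pan.X_le
        have h1 := mem_centralizer_iff.1 (hXF (cj_mono h t.pan.U_le_X (inv_mem ha))) _ (inv_mem ha')
        rw [e1, ← h1, mul_assoc, inv_mul_cancel, mul_one]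
        exact inv_mem ha' }
  have key : cj h (cl V X) ≤ K := by
    unfold cl
    rw [EZero.cj_iSup]
    refine iSup_le fun x => ?_
    rw [cj_cj]
    intro v hv
    have hvU : v ∈ cj h (cl V X) := by
      rw [← cj_cj] at hv
      exact cj_mono h (cj_le_cl x.2) hv
    refine ⟨hvU, ?_⟩
    by_cases hn : BB V X F₁ ≤ normalizer ((cj (h * x) V : Subgroup G) : Set G)
    · have h1 := mem_centralizer_iff.1 (hline x x.2 hn he) v hv
      have h2 : ⁅v, e⁆ = 1 := by rw [commutatorElement_eq_one_iff_mul_comm]; exact h1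
      rw [h2]; exact one_mem _
    · rw [SetLike.not_le_iff_exists] at hn
      obtain ⟨w, hw, hwn⟩ := hn
      have h3 : ⁅v, e⁆ ∈ cj (h * x) V := by
        have h4 : cj h (o2 X) ≤ normalizer ((cj (h * x) V : Subgroup G) : Set G) := by
          have := cj_norm (g := h) (t.pan.o2_norm_line x.2)
          rwa [cj_cj] at this
        have h1 := conj_mem' h4 heQ (inv_mem hv)
        have e1 : ⁅v, e⁆ = v * (e * v⁻¹ * e⁻¹) := by simp only [commutatorElement_def]; group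
        rw [e1]
        exact mul_mem hv h1
      have h5 : ⁅v, e⁆ ∈ BB V X F₁ := by
        have h1 := conj_mem' X'_norm_B (t.V'_le_X' (hU hvU)) he
        rw [commutatorElement_def]
        exact (BB V X F₁).mul_mem h1 ((BB V X F₁).inv_mem he)
      exact t.cent_le_cj x.2 (cj_mono h t.pan.Q0_X (hB hw)) hwn h3
        (mem_centralizer_iff.1 (t.B_comm h5) w hw).symm
  exact (key hu).2

/-- `|B : B ∩ Q^h|² ≤ |U^h : C(B)|` -/
theorem two_le {h : G} (hB : BB V X F₁ ≤ cj h Q0) :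
    (cj h (o2 X)).relIndex (BB V X F₁) * (cj h (o2 X)).relIndex (BB V X F₁) ≤
      (centralizer (BB V X F₁ : Set G)).relIndex (cj h (cl V X)) := by
  obtain ⟨N, hN, hXN, hE, hE'⟩ := t.two
  have hBX : cj h⁻¹ (BB V X F₁) ≤ X := by
    rw [cj_le_iff, inv_inv]
    exact hB.trans (cj_mono h t.pan.Q0_X)
  have h3 := t.noov.two hN t.pan.U_le_X t.pan.U_sq t.pan.U_comm hXN (le_normalizer_cl V X) hE hE' hBX
    (fun a ha => by
      rw [mem_cj, inv_inv] at ha
      have h4 := t.B_sq _ ha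
      have e : a ^ 2 = h⁻¹ * (h * a * h⁻¹) ^ 2 * h := by rw [pow_two, pow_two]; group
      rw [e, h4, mul_one, inv_mul_cancel]
      exact one_mem _) (fun a ha b hb => by
      rw [mem_cj, inv_inv] at ha hb
      have h4 := mem_centralizer_iff.1 (t.B_comm ha) _ hb
      have e : a * b * a⁻¹ * b⁻¹ = h⁻¹ * ((h * a * h⁻¹) * (h * b * h⁻¹) * (h * a * h⁻¹)⁻¹ * (h * b * h⁻¹)⁻¹) * h := by
        group
      rw [e, ← h4, mul_inv_cancel_right, mul_inv_cancel, mul_one, inv_mul_cancel]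
      exact one_mem _)
  have e1 : (o2 X).relIndex (cj h⁻¹ (BB V X F₁)) = (cj h (o2 X)).relIndex (BB V X F₁) := by
    rw [← relIndex_cj h, cj_cj_inv]
  have e2 : (centralizer ((cj h⁻¹ (BB V X F₁) : Subgroup G) : Set G)).relIndex (cl V X) =
      (centralizer (BB V X F₁ : Set G)).relIndex (cj h (cl V X)) := by
    rw [← relIndex_cj h, cj_cents, cj_cj_inv]
  rw [e1, e2] at h3
  exact h3

/-- `|D : C_D(B)| ≤ |B : C_B(D)|` for `D ≤ E` -/
theorem noover_B {D : Subgroup G} (hD : D ≤ EE V' F₁) :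
    (centralizer (BB V X F₁ : Set G)).relIndex D ≤ (centralizer (D : Set G)).relIndex (BB V X F₁) := by
  refine step_prod (Y := fun y : centralizer (F₁ : Set G) => cj (y : G) (cl V X)) le_rfl
    (fun y => cj_le_cl y.2) fun y D' hD' => ?_
  have hDV : D' ≤ V' := (hD'.trans hD).trans inf_le_left
  refine noOver_cj t.hno y ?_ (fun a ha => t.hy.sq a (hDV ha)) (hDV.trans (t.hy.comm.trans (centralizer_le hDV)))
  exact ((hD'.trans hD).trans NOne.Flat.Hyp.E_le_W).trans ((t.W_le_cj y.2).trans (cj_mono _ t.pan.Q0_X))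

/-- **(5)** -/
theorem count {h : G} (hB : BB V X F₁ ≤ cj h Q0) (hU : cj h (cl V X) ≤ V')
    (hE : ¬ cj h (cl V X) ≤ EE V' F₁)
    (hline : ∀ x ∈ X, BB V X F₁ ≤ normalizer ((cj (h * x) V : Subgroup G) : Set G) →
      BB V X F₁ ≤ centralizer ((cj (h * x) V : Subgroup G) : Set G)) :
    2 * (NN V' F₁).relIndex (BB V X F₁) ≤ (EE V' F₁).relIndex V' * (EE V' F₁).relIndex V' := by
  set B := BB V X F₁ with hBdef
  set E := EE V' F₁ with hEdef
  set Q := cj h (o2 X) with hQ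
  set U := cj h (cl V X) with hUdef
  -- a bad line
  have hl : ∃ x ∈ X, ¬ cj (h * x) V ≤ E := by
    by_contra hcon
    push Not at hcon
    apply hE
    rw [hUdef]
    unfold cl
    rw [EZero.cj_iSup]
    refine iSup_le fun y => ?_
    rw [cj_cj]
    exact hcon y y.2
  obtain ⟨x, hx, hlE⟩ := hl
  set lam := cj (h * x) V with hlam
  have hlU : lam ≤ U := by
    rw [hlam, ← cj_cj]
    exact cj_mono h (cj_le_cl hx)
  have hlF : lam ⊓ F₁ = ⊥ := by
    by_contra h0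
    exact hlE (t.le_E (hlU.trans hU) h0)
  have hFF : cj h F ⊓ F₁ = ⊥ := by
    rw [← le_bot_iff, ← hlF]
    refine inf_le_inf_right _ ?_
    rw [hlam, ← cj_cj]
    exact cj_mono h (t.pan.F_le_line hx)
  -- `[E₂, E₁] = 1`
  have hcomm : B ⊓ Q ≤ centralizer ((U ⊓ E : Subgroup G) : Set G) := by
    rintro e ⟨heB, heQ⟩
    rw [mem_centralizer_iff]
    rintro u ⟨huU, huE⟩
    have h1 := t.comm_mem_F hB hU hline huU heB heQ
    have h2 : ⁅u, e⁆ ∈ F₁ := by
      rw [commutatorElement_def]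
      exact t.hy.comm_EW huE (t.B_le_W heB)
    have h3 : ⁅u, e⁆ ∈ cj h F ⊓ F₁ := ⟨h1, h2⟩
    rw [hFF, mem_bot, commutatorElement_eq_one_iff_mul_comm] at h3
    exact h3
  have hX0 : 0 < Q.relIndex B := Nat.pos_of_ne_zero index_ne_zero_of_finite
  -- `x ≤ ε`
  have hE2 : (centralizer (B : Set G)).relIndex (U ⊓ E) ≤ Q.relIndex B := by
    have h1 := t.noover_B (D := U ⊓ E) inf_le_right
    have h2 : (centralizer ((U ⊓ E : Subgroup G) : Set G)).relIndex B ≤ (B ⊓ Q).relIndex B :=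
      relIndex_le_of_le_left hcomm index_ne_zero_of_finite
    rw [inf_relIndex_left] at h2
    exact h1.trans h2
  have hUE : E.relIndex U ≤ E.relIndex V' := relIndex_le_of_le_right hU index_ne_zero_of_finite
  have hxe : Q.relIndex B ≤ E.relIndex V' := by
    have h1 := t.two_le hB
    have h2 : (centralizer (B : Set G)).relIndex U ≤ (centralizer (B : Set G) ⊓ E).relIndex U :=
      relIndex_le_of_le_left inf_le_left index_ne_zero_of_finite
    rw [← relIndex_inf_mul_relIndex, inf_comm E U] at h2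
    have h3 : Q.relIndex B * Q.relIndex B ≤ Q.relIndex B * E.relIndex V' :=
      h1.trans (h2.trans (Nat.mul_le_mul hE2 hUE))
    exact Nat.le_of_mul_le_mul_left h3 hX0
  -- `|B : B ∩ N| ≤ |B : E₁| |E₁ : E₁ ∩ N|`
  have hN : (NN V' F₁).relIndex B ≤ (NN V' F₁).relIndex (B ⊓ Q) * Q.relIndex B := by
    rw [inf_comm B Q, relIndex_inf_mul_relIndex]
    exact relIndex_le_of_le_left inf_le_left index_ne_zero_of_finite
  -- the bad line
  have hcN : centralizer (lam : Set G) ⊓ (B ⊓ Q) ≤ NN V' F₁ := by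
    rintro s ⟨hs1, hs2, -⟩
    rw [SetLike.not_le_iff_exists] at hlE
    obtain ⟨w, hw, hwE⟩ := hlE
    have hwV : w ∈ V' := hU (hlU hw)
    rw [← t.hy.c_mem_F_iff hwV hwE (t.B_le_W hs2)]
    have h1 := mem_centralizer_iff.1 hs1 w hw
    rw [c_def, h1, mul_inv_cancel_right, mul_inv_cancel]
    exact one_mem _
  have hNl : (NN V' F₁).relIndex (B ⊓ Q) ≤ (centralizer (lam : Set G)).relIndex (B ⊓ Q) := by
    have h1 := relIndex_le_of_le_left (L := B ⊓ Q) hcN index_ne_zero_of_finite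
    rwa [inf_relIndex_right] at h1
  have hmain : 2 * (NN V' F₁).relIndex (B ⊓ Q) ≤ E.relIndex V' := by
    by_cases hc : B ⊓ Q ≤ centralizer (lam : Set G)
    · have h1 : (NN V' F₁).relIndex (B ⊓ Q) = 1 := by
        rw [relIndex_eq_one]
        exact (le_inf hc le_rfl).trans hcN
      rw [h1, mul_one]
      exact two_le_of_ne fun h0 => hE (hU.trans h0)
    · have h5 := (t.pan.nff.cj (h * x)) (B ⊓ Q) (t.isPGroup_B.to_le inf_le_left)
        (inf_le_right.trans (by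
          have := cj_norm (g := h) (t.pan.o2_norm_line hx)
          rwa [cj_cj] at this))
        (fun a ha => by rw [t.B_sq a ha.1]; exact one_mem _)
        (fun a ha b hb => by
          have e : a * b = b * a := (mem_centralizer_iff.1 (t.B_comm ha.1) b hb.1).symm
          rw [e, mul_inv_cancel_right, mul_inv_cancel]; exact one_mem _) hc
      have h6 := two_mul_le_of_lt (t.isPGroup_B.to_le inf_le_left)
        (isPGroup_cj _ t.pan.isPGroup_V) h5
      have h7 : (centralizer ((B ⊓ Q : Subgroup G) : Set G)).relIndex lam ≤ E.relIndex lam := by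
        have h8 : E ⊓ lam ≤ centralizer ((B ⊓ Q : Subgroup G) : Set G) :=
          (le_inf (inf_le_right.trans hlU) inf_le_left).trans (cent_symm hcomm)
        have h9 := relIndex_le_of_le_left (L := lam) h8 index_ne_zero_of_finite
        rwa [inf_relIndex_right] at h9
      have h8 : E.relIndex lam ≤ E.relIndex V' := relIndex_le_of_le_right (hlU.trans hU) index_ne_zero_of_finite
      calc 2 * (NN V' F₁).relIndex (B ⊓ Q) ≤ 2 * (centralizer (lam : Set G)).relIndex (B ⊓ Q) :=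
            Nat.mul_le_mul_left 2 hNl
        _ ≤ _ := h6
        _ ≤ _ := h7
        _ ≤ _ := h8
  calc 2 * (NN V' F₁).relIndex B ≤ 2 * ((NN V' F₁).relIndex (B ⊓ Q) * Q.relIndex B) := Nat.mul_le_mul_left 2 hN
    _ = (2 * (NN V' F₁).relIndex (B ⊓ Q)) * Q.relIndex B := by ring
    _ ≤ E.relIndex V' * E.relIndex V' := Nat.mul_le_mul hmain hxe

end Bt

end Cfsg.Agent.Omega.NO3b.BetaTwo

end

section


/-!
# THEOREM BETA2 for a family of panels (helper506, bb #21336 (A)), part 1: the frame, the gallery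

`BtF V F T X L Q0 V' F₁`, `F T X : ι → Subgroup G` : panels `X i` over one line `V` with `NoOv`, `SM`, `Two`, `NoOver`;
`W = WW V' F₁ ≤ Q0`, `W ≰ O₂(X i)` for some `i`, `⟨V^{X i}⟩ ≤ V'`, the lines are good.

* `comm_of_le'` : the mutual pair for two panels over one line;
* `BtF.le_E` (G1); `BF V X F₁ = ⨆ i, ⟨U_i^y | y ∈ C_G(F₁)⟩`; `BtF.B_comm`, `BtF.B_le_W` (1);
* `BtF.exists_gal` (2) : the critical panel `(X i)^h`.
-/

set_option autoImplicit false

namespace Cfsg.Agent.Omega.NO3b.BetaTwo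

open Subgroup Cfsg Cfsg.Agent.ZN Cfsg.Agent.ZN.ChoiceBase
open Cfsg.Agent.ZN.ChoiceSit (Syl exists_syl syl_conj o2_le_syl)
open Cfsg.Agent.Omega.NO3b.EZero
open Cfsg.Agent.Omega.NO3b.K0 (NoOv cj_of_le cj_self cj_bot')
open Cfsg.Agent.Omega.NO3b.K0.Mix (Pan SM Two Crit k0p)
open Cfsg.Agent.Omega.NOne.Flat (EE WW NN Bad)
open Cfsg.Agent.Omega.NOne.NearFF (c)

universe u v

variable {G : Type u} [Group G]

/-- The frame for a family of panels. -/
structure BtF [Finite G] {ι : Type v} (V : Subgroup G) (F T X : ι → Subgroup G) (L Q0 V' F₁ : Subgroup G) :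
    Prop where
  pan : ∀ i, Pan V (F i) (T i) (X i) L Q0
  noov : ∀ i, NoOv (X i)
  sm : ∀ i, SM V (X i)
  two : ∀ i, Two V (X i)
  hno : ∀ i, NoOver V (X i)
  hy : NOne.Flat.Hyp V' F₁
  hoff : ∀ E0 : Subgroup G, F₁ ≤ E0 → E0 ≤ EE V' F₁ →
    F₁.relIndex E0 ≤ (centralizer (E0 : Set G)).relIndex (WW V' F₁)
  good : ∀ (g : G) (D : Subgroup G), D ≤ cj g V → D ≠ ⊥ → cj g V ≤ o2 (centralizer (D : Set G))
  WQ : WW V' F₁ ≤ Q0
  WX : ∃ i, ¬ WW V' F₁ ≤ o2 (X i)
  UV : ∀ i, cl V (X i) ≤ V'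

/-- `B = ⨆ i, ⟨U_i^y | y ∈ C_G(F₁)⟩` -/
def BF {ι : Type v} (V : Subgroup G) (X : ι → Subgroup G) (F₁ : Subgroup G) : Subgroup G :=
  ⨆ i, BB V (X i) F₁

/-- **(K0P)** for two panels over one line -/
theorem comm_of_le' [Finite G] {V F T X F' T' X' L Q0 : Subgroup G} (p : Pan V F T X L Q0)
    (p' : Pan V F' T' X' L Q0) (hX : NoOv X) (hX' : NoOv X') (hs : SM V X) (hs' : SM V X') (h2 : Two V X)
    (h2' : Two V X') {a b : G} (h1 : cj a (cl V X) ≤ cj b Q0) (h3 : cj b (cl V X') ≤ cj a Q0) :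
    cj a (cl V X) ≤ centralizer ((cj b (cl V X') : Subgroup G) : Set G) := by
  have h4 : cl V X ≤ centralizer ((cj (a⁻¹ * b) (cl V X') : Subgroup G) : Set G) := by
    refine k0p p p' hX hX' hs hs' h2 h2' ?_ ?_
    · rw [← cj_cj, ← cj_le_iff]
      exact h1.trans (cj_mono b p'.Q0_X)
    · rw [← cj_cj, cj_le_iff, inv_inv]
      exact h3.trans (cj_mono a p.Q0_X)
  have h5 := cj_cent (g := a) h4
  rwa [cj_cj, mul_inv_cancel_left] at h5

namespace BtF

variable [Finite G] {ι : Type v} {V : Subgroup G} {F T X : ι → Subgroup G} {L Q0 V' F₁ : Subgroup G}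
  (t : BtF V F T X L Q0 V' F₁)
include t

/-- the frame for one panel `X i` with `W ≰ O₂(X i)` -/
theorem bt {i : ι} (hi : ¬ WW V' F₁ ≤ o2 (X i)) : Bt V (F i) (T i) (X i) L Q0 V' F₁ where
  pan := t.pan i
  noov := t.noov i
  sm := t.sm i
  two := t.two i
  hno := t.hno i
  hy := t.hy
  hoff := t.hoff
  good := t.good
  WQ := t.WQ
  WX := hi
  UV := t.UV i

/-- `V ≤ F₁` -/
theorem V_le_F₁ : V ≤ F₁ := by
  obtain ⟨i, hi⟩ := t.WX
  exact (t.bt hi).V_le_F₁

/-- **(G1)** a line in `V'` which meets `F₁` is in `E`. -/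
theorem le_E {g : G} (h1 : cj g V ≤ V') (h2 : cj g V ⊓ F₁ ≠ ⊥) : cj g V ≤ EE V' F₁ := by
  obtain ⟨i, hi⟩ := t.WX
  exact (t.bt hi).le_E h1 h2

/-- the lines on `X i` are in `E` -/
theorem line_le_E {i : ι} {x : G} (hx : x ∈ X i) : cj x V ≤ EE V' F₁ := by
  refine t.le_E ((cj_le_cl hx).trans (t.UV i)) fun h0 => (t.pan i).F_ne_bot ?_
  rw [← le_bot_iff, ← h0]
  exact le_inf ((t.pan i).F_le_line hx) ((t.pan i).F_le.trans t.V_le_F₁)

theorem U_le_E (i : ι) : cl V (X i) ≤ EE V' F₁ := cl_le fun _ hx => t.line_le_E hx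

theorem cjU_le_W (i : ι) {y : G} (hy : y ∈ centralizer (F₁ : Set G)) : cj y (cl V (X i)) ≤ WW V' F₁ :=
  (cj_mono y (t.U_le_E i)).trans (Bt.conjE_le_W' hy)

/-- `W ≤ Q0^y` -/
theorem W_le_cj {y : G} (hy : y ∈ centralizer (F₁ : Set G)) : WW V' F₁ ≤ cj y Q0 := by
  have h1 := cj_mono y t.WQ
  rwa [Bt.conj_W' hy] at h1

theorem V_ne_bot : V ≠ ⊥ := by
  obtain ⟨i, -⟩ := t.WX
  exact (t.pan i).V_ne_bot

/-! ### (1) -/

theorem cjU_comm (i j : ι) {y z : G} (hy : y ∈ centralizer (F₁ : Set G)) (hz : z ∈ centralizer (F₁ : Set G)) :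
    cj y (cl V (X i)) ≤ centralizer ((cj z (cl V (X j)) : Subgroup G) : Set G) :=
  comm_of_le' (t.pan i) (t.pan j) (t.noov i) (t.noov j) (t.sm i) (t.sm j) (t.two i) (t.two j)
    ((t.cjU_le_W i hy).trans (t.W_le_cj hz)) ((t.cjU_le_W j hz).trans (t.W_le_cj hy))

omit [Finite G] t in
theorem cjU_le_B (i : ι) {y : G} (hy : y ∈ centralizer (F₁ : Set G)) : cj y (cl V (X i)) ≤ BF V X F₁ :=
  (cj_le_cl (V := cl V (X i)) hy).trans (le_iSup (fun i => BB V (X i) F₁) i)

omit [Finite G] t in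
theorem U_le_B (i : ι) : cl V (X i) ≤ BF V X F₁ :=
  (le_cl _ _).trans (le_iSup (fun i => BB V (X i) F₁) i)

omit [Finite G] t in
theorem B_le {A : Subgroup G} (h : ∀ i, ∀ y ∈ centralizer (F₁ : Set G), cj y (cl V (X i)) ≤ A) : BF V X F₁ ≤ A :=
  iSup_le fun i => cl_le (h i)

theorem B_comm : BF V X F₁ ≤ centralizer (BF V X F₁ : Set G) :=
  B_le fun i _ hy => cent_symm (B_le fun j _ hz => t.cjU_comm j i hz hy)

theorem B_le_W : BF V X F₁ ≤ WW V' F₁ := B_le fun i _ hy => t.cjU_le_W i hy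

omit [Finite G] t in
theorem X'_norm_B : centralizer (F₁ : Set G) ≤ normalizer (BF V X F₁ : Set G) := by
  intro y hy
  rw [mem_normalizer_iff_cj, BF, EZero.cj_iSup]
  congr 1
  funext i
  exact cj_cl hy

theorem cjU_sq (i : ι) (y : G) : ∀ u ∈ cj y (cl V (X i)), u ^ 2 = 1 := by
  intro v hv
  have h1 := (t.pan i).U_sq _ (mem_cj.1 hv)
  have e : v ^ 2 = y * (y⁻¹ * v * y) ^ 2 * y⁻¹ := by rw [pow_two, pow_two]; group
  rw [e, h1]; group

theorem B_sq : ∀ b ∈ BF V X F₁, b ^ 2 = 1 :=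
  sq_of_comm t.B_comm (ι := ι × centralizer (F₁ : Set G)) (B := fun i => cj (i.2 : G) (cl V (X i.1)))
    (fun i => cjU_le_B i.1 i.2.2)
    (B_le fun i y hy => le_iSup (fun i : ι × centralizer (F₁ : Set G) => cj (i.2 : G) (cl V (X i.1))) (i, ⟨y, hy⟩))
    fun i => t.cjU_sq i.1 i.2

theorem isPGroup_B : IsPGroup 2 (BF V X F₁) := fun x => ⟨1, Subtype.ext (by simpa using t.B_sq x x.2)⟩

/-! ### (2) -/

/-- the step of the gallery -/
theorem gal_step {h : G} (hB : BF V X F₁ ≤ cj h Q0) {i : ι} (hE : cj h (cl V (X i)) ≤ EE V' F₁) {x : G}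
    (hx : x ∈ X i) : BF V X F₁ ≤ cj (h * x) Q0 := by
  have h1 : BF V X F₁ ≤ centralizer ((cj h (cl V (X i)) : Subgroup G) : Set G) := by
    refine B_le fun j y hy => ?_
    exact comm_of_le' (t.pan j) (t.pan i) (t.noov j) (t.noov i) (t.sm j) (t.sm i) (t.two j) (t.two i)
      ((cjU_le_B j hy).trans hB) ((hE.trans NOne.Flat.Hyp.E_le_W).trans (t.W_le_cj hy))
  have h2 : BF V X F₁ ≤ cj h (o2 (X i)) :=
    (t.pan i).le_cj_o2 t.isPGroup_B (hB.trans (cj_mono h (t.pan i).Q0_X)) h1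
  have h3 : cj h (o2 (X i)) = cj (h * x) (o2 (X i)) := by
    rw [← cj_cj, cj_of_le (ChoiceSit.le_normalizer_o2 (X i)) hx]
  rw [h3] at h2
  refine (t.pan i).le_cj_Q0_of t.isPGroup_B
    (h2.trans (cj_mono _ ((t.pan i).o2_le_T.trans (t.pan i).T_le))) ?_
  refine h1.trans (centralizer_le ?_)
  rw [← cj_cj]
  exact cj_mono h (cj_le_cl hx)

theorem cj_Q0 {l : G} (hl : l ∈ L) : cj l Q0 = Q0 := by
  obtain ⟨i, -⟩ := t.WX
  exact (t.pan i).cj_Q0 hl

/-- **(2)** the critical panel -/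
theorem exists_gal {H : Subgroup G} (hH : H ≤ (⨆ i, X i) ⊔ L) (hLH : L ≤ H) (hXH : ∀ i, X i ≤ H)
    (hE : ¬ cl V H ≤ EE V' F₁) :
    ∃ h ∈ H, BF V X F₁ ≤ cj h Q0 ∧ ∃ i, ¬ cj h (cl V (X i)) ≤ EE V' F₁ := by
  by_contra hcon
  push Not at hcon
  apply hE
  have h0 : BF V X F₁ ≤ cj 1 Q0 := by
    rw [cj_one]; exact t.B_le_W.trans t.WQ
  have key : ∀ h ∈ H, BF V X F₁ ≤ cj h Q0 := by
    intro h hh
    have hh' := hH hh
    have hcl : (⨆ i, X i) ⊔ L = closure ((⋃ i, (X i : Set G)) ∪ (L : Set G)) := by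
      rw [Subgroup.closure_union, closure_eq, Subgroup.closure_iUnion]
      simp only [closure_eq]
    rw [hcl] at hh'
    have h1 : h ∈ H ∧ BF V X F₁ ≤ cj h Q0 := by
      induction hh' using Subgroup.closure_induction_right with
      | one => exact ⟨one_mem _, h0⟩
      | mul_right a _ b hb ih =>
        have ih' := ih (by
          rcases hb with hb | hb
          · obtain ⟨i, hi⟩ := Set.mem_iUnion.1 hb
            have := mul_mem hh (inv_mem (hXH i hi))
            rwa [mul_inv_cancel_right] at this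
          · have := mul_mem hh (inv_mem (hLH hb))
            rwa [mul_inv_cancel_right] at this)
        refine ⟨hh, ?_⟩
        rcases hb with hb | hb
        · obtain ⟨i, hi⟩ := Set.mem_iUnion.1 hb
          exact t.gal_step ih'.2 (hcon a ih'.1 ih'.2 i) hi
        · rw [← cj_cj, t.cj_Q0 hb]
          exact ih'.2
      | mul_inv_cancel a _ b hb ih =>
        have ih' := ih (by
          rcases hb with hb | hb
          · obtain ⟨i, hi⟩ := Set.mem_iUnion.1 hb
            have := mul_mem hh (hXH i hi)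
            rwa [inv_mul_cancel_right] at this
          · have := mul_mem hh (hLH hb)
            rwa [inv_mul_cancel_right] at this)
        refine ⟨hh, ?_⟩
        rcases hb with hb | hb
        · obtain ⟨i, hi⟩ := Set.mem_iUnion.1 hb
          exact t.gal_step ih'.2 (hcon a ih'.1 ih'.2 i) (inv_mem hi)
        · rw [← cj_cj, t.cj_Q0 (inv_mem hb)]
          exact ih'.2
    exact h1.2
  obtain ⟨i, -⟩ := t.WX
  exact cl_le fun h hh => (cj_mono h (le_cl V (X i))).trans (hcon h hh (key h hh) i)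

end BtF

end Cfsg.Agent.Omega.NO3b.BetaTwo

end

section


/-!
# THEOREM BETA2 for a family of panels (helper506, bb #21336 (A)), step (5): the count

`Cnt.lean` with `B = BF V X F₁`:

* `BtF.comm_mem_F` : `[U_i^h, B ∩ Q_i^h] ≤ F_i^h`;
* `BtF.two_le` : `|B : B ∩ Q_i^h|² ≤ |U_i^h : C(B)|`;
* **`BtF.count`** : `2 |B : B ∩ N| ≤ |V' : E|²`.
-/

set_option autoImplicit false

namespace Cfsg.Agent.Omega.NO3b.BetaTwo

open Subgroup Cfsg Cfsg.Agent.ZN Cfsg.Agent.ZN.ChoiceBase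
open Cfsg.Agent.ZN.ChoiceSit (Syl exists_syl syl_conj o2_le_syl)
open Cfsg.Agent.Omega.NO3b.EZero
open Cfsg.Agent.Omega.NO3b.K0 (NoOv cj_of_le cj_self cj_bot' two_mul_le_of_lt two_le_of_ne cent_sup conj_mem')
open Cfsg.Agent.Omega.NO3b.K0.Mix (Pan SM Two Crit)
open Cfsg.Agent.Omega.NOne.Flat (EE WW NN Bad)
open Cfsg.Agent.Omega.NOne.NearFF (c c_def)
open scoped commutatorElement

universe u v

variable {G : Type u} [Group G]

namespace BtF

variable [Finite G] {ι : Type v} {V : Subgroup G} {F T X : ι → Subgroup G} {L Q0 V' F₁ : Subgroup G}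
  (t : BtF V F T X L Q0 V' F₁)
include t

/-- `C_{V^{hx}}(w) ≤ F^h` for `w ∈ X^h - N(V^{hx})` -/
theorem cent_le_cj {i : ι} {h x w v : G} (hx : x ∈ X i) (hw : w ∈ cj h (X i))
    (hn : w ∉ normalizer ((cj (h * x) V : Subgroup G) : Set G)) (hv : v ∈ cj (h * x) V) (hc : v * w = w * v) :
    v ∈ cj h (F i) := by
  rw [mem_cj]
  refine (t.pan i).cent_le (x := x) (w := h⁻¹ * w * h) hx (mem_cj.1 hw) (fun h0 => hn ?_) (v := h⁻¹ * v * h) ?_ ?_
  · have h1 := mem_normalizer_iff_cj.1 h0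
    rw [mem_normalizer_iff_cj]
    have h2 := congrArg (cj h) h1
    rw [cj_cj, cj_cj, cj_cj] at h2
    rw [cj_cj]
    convert h2 using 2
    group
  · rw [← cj_cj, mem_cj] at hv
    exact hv
  · have e1 : h⁻¹ * v * h * (h⁻¹ * w * h) = h⁻¹ * (v * w) * h := by group
    have e2 : h⁻¹ * w * h * (h⁻¹ * v * h) = h⁻¹ * (w * v) * h := by group
    rw [e1, e2, hc]

/-- `[U^h, B ∩ Q^h] ≤ F^h` -/
theorem comm_mem_F {h : G} {i : ι} (hB : BF V X F₁ ≤ cj h Q0) (hU : cj h (cl V (X i)) ≤ V')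
    (hline : ∀ x ∈ X i, BF V X F₁ ≤ normalizer ((cj (h * x) V : Subgroup G) : Set G) →
      BF V X F₁ ≤ centralizer ((cj (h * x) V : Subgroup G) : Set G))
    {u e : G} (hu : u ∈ cj h (cl V (X i))) (he : e ∈ BF V X F₁) (heQ : e ∈ cj h (o2 (X i))) : ⁅u, e⁆ ∈ cj h (F i) := by
  let K : Subgroup G :=
    { carrier := {u | u ∈ cj h (cl V (X i)) ∧ ⁅u, e⁆ ∈ cj h (F i)}
      one_mem' := ⟨one_mem _, by rw [commutatorElement_one_left]; exact one_mem _⟩
      mul_mem' := by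
        rintro a b ⟨ha, ha'⟩ ⟨hb, hb'⟩
        refine ⟨mul_mem ha hb, ?_⟩
        have e1 : ⁅a * b, e⁆ = (a * ⁅b, e⁆ * a⁻¹) * ⁅a, e⁆ := by
          simp only [commutatorElement_def]; group
        have hXF : cj h (X i) ≤ centralizer ((cj h (F i) : Subgroup G) : Set G) := cj_cent (t.pan i).X_le
        have h1 := mem_centralizer_iff.1 (hXF (cj_mono h (t.pan i).U_le_X ha)) _ hb'
        rw [e1, ← h1, mul_inv_cancel_right]
        exact mul_mem hb' ha'
      inv_mem' := by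
        rintro a ⟨ha, ha'⟩
        refine ⟨inv_mem ha, ?_⟩
        have e1 : ⁅a⁻¹, e⁆ = a⁻¹ * ⁅a, e⁆⁻¹ * a := by
          simp only [commutatorElement_def]; group
        have hXF : cj h (X i) ≤ centralizer ((cj h (F i) : Subgroup G) : Set G) := cj_cent (t.pan i).X_le
        have h1 := mem_centralizer_iff.1 (hXF (cj_mono h (t.pan i).U_le_X (inv_mem ha))) _ (inv_mem ha')
        rw [e1, ← h1, mul_assoc, inv_mul_cancel, mul_one]
        exact inv_mem ha' }
  have key : cj h (cl V (X i)) ≤ K := by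
    unfold cl
    rw [EZero.cj_iSup]
    refine iSup_le fun x => ?_
    rw [cj_cj]
    intro v hv
    have hvU : v ∈ cj h (cl V (X i)) := by
      rw [← cj_cj] at hv
      exact cj_mono h (cj_le_cl x.2) hv
    refine ⟨hvU, ?_⟩
    by_cases hn : BF V X F₁ ≤ normalizer ((cj (h * x) V : Subgroup G) : Set G)
    · have h1 := mem_centralizer_iff.1 (hline x x.2 hn he) v hv
      have h2 : ⁅v, e⁆ = 1 := by rw [commutatorElement_eq_one_iff_mul_comm]; exact h1
      rw [h2]; exact one_mem _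
    · rw [SetLike.not_le_iff_exists] at hn
      obtain ⟨w, hw, hwn⟩ := hn
      have h3 : ⁅v, e⁆ ∈ cj (h * x) V := by
        have h4 : cj h (o2 (X i)) ≤ normalizer ((cj (h * x) V : Subgroup G) : Set G) := by
          have := cj_norm (g := h) ((t.pan i).o2_norm_line x.2)
          rwa [cj_cj] at this
        have h1 := conj_mem' h4 heQ (inv_mem hv)
        have e1 : ⁅v, e⁆ = v * (e * v⁻¹ * e⁻¹) := by simp only [commutatorElement_def]; group
        rw [e1]
        exact mul_mem hv h1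
      have h5 : ⁅v, e⁆ ∈ BF V X F₁ := by
        have h1 := conj_mem' X'_norm_B (t.hy.V_le_X (hU hvU)) he
        rw [commutatorElement_def]
        exact (BF V X F₁).mul_mem h1 ((BF V X F₁).inv_mem he)
      exact t.cent_le_cj x.2 (cj_mono h (t.pan i).Q0_X (hB hw)) hwn h3
        (mem_centralizer_iff.1 (t.B_comm h5) w hw).symm
  exact (key hu).2

/-- `|B : B ∩ Q^h|² ≤ |U^h : C(B)|` -/
theorem two_le {h : G} {i : ι} (hB : BF V X F₁ ≤ cj h Q0) :
    (cj h (o2 (X i))).relIndex (BF V X F₁) * (cj h (o2 (X i))).relIndex (BF V X F₁) ≤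
      (centralizer (BF V X F₁ : Set G)).relIndex (cj h (cl V (X i))) := by
  obtain ⟨N, hN, hXN, hE, hE'⟩ := t.two i
  have hBX : cj h⁻¹ (BF V X F₁) ≤ X i := by
    rw [cj_le_iff, inv_inv]
    exact hB.trans (cj_mono h (t.pan i).Q0_X)
  have h3 := (t.noov i).two hN (t.pan i).U_le_X (t.pan i).U_sq (t.pan i).U_comm hXN (le_normalizer_cl V (X i)) hE hE' hBX
    (fun a ha => by
      rw [mem_cj, inv_inv] at ha
      have h4 := t.B_sq _ ha
      have e : a ^ 2 = h⁻¹ * (h * a * h⁻¹) ^ 2 * h := by rw [pow_two, pow_two]; group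
      rw [e, h4, mul_one, inv_mul_cancel]
      exact one_mem _) (fun a ha b hb => by
      rw [mem_cj, inv_inv] at ha hb
      have h4 := mem_centralizer_iff.1 (t.B_comm ha) _ hb
      have e : a * b * a⁻¹ * b⁻¹ = h⁻¹ * ((h * a * h⁻¹) * (h * b * h⁻¹) * (h * a * h⁻¹)⁻¹ * (h * b * h⁻¹)⁻¹) * h := by
        group
      rw [e, ← h4, mul_inv_cancel_right, mul_inv_cancel, mul_one, inv_mul_cancel]
      exact one_mem _)
  have e1 : (o2 (X i)).relIndex (cj h⁻¹ (BF V X F₁)) = (cj h (o2 (X i))).relIndex (BF V X F₁) := by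
    rw [← relIndex_cj h, cj_cj_inv]
  have e2 : (centralizer ((cj h⁻¹ (BF V X F₁) : Subgroup G) : Set G)).relIndex (cl V (X i)) =
      (centralizer (BF V X F₁ : Set G)).relIndex (cj h (cl V (X i))) := by
    rw [← relIndex_cj h, cj_cents, cj_cj_inv]
  rw [e1, e2] at h3
  exact h3

/-- `|D : C_D(B)| ≤ |B : C_B(D)|` for `D ≤ E` -/
theorem noover_B {D : Subgroup G} (hD : D ≤ EE V' F₁) :
    (centralizer (BF V X F₁ : Set G)).relIndex D ≤ (centralizer (D : Set G)).relIndex (BF V X F₁) := by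
  refine step_prod (Y := fun k : ι × centralizer (F₁ : Set G) => cj (k.2 : G) (cl V (X k.1)))
    (B_le fun i y hy => le_iSup (fun k : ι × centralizer (F₁ : Set G) => cj (k.2 : G) (cl V (X k.1))) (i, ⟨y, hy⟩))
    (fun k => cjU_le_B k.1 k.2.2) fun k D' hD' => ?_
  have hDV : D' ≤ V' := (hD'.trans hD).trans inf_le_left
  refine noOver_cj (t.hno k.1) k.2 ?_ (fun a ha => t.hy.sq a (hDV ha)) (hDV.trans (t.hy.comm.trans (centralizer_le hDV)))
  exact ((hD'.trans hD).trans NOne.Flat.Hyp.E_le_W).trans ((t.W_le_cj k.2.2).trans (cj_mono _ (t.pan k.1).Q0_X))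

/-- **(5)** -/
theorem count {h : G} {i : ι} (hB : BF V X F₁ ≤ cj h Q0) (hU : cj h (cl V (X i)) ≤ V')
    (hE : ¬ cj h (cl V (X i)) ≤ EE V' F₁)
    (hline : ∀ x ∈ X i, BF V X F₁ ≤ normalizer ((cj (h * x) V : Subgroup G) : Set G) →
      BF V X F₁ ≤ centralizer ((cj (h * x) V : Subgroup G) : Set G)) :
    2 * (NN V' F₁).relIndex (BF V X F₁) ≤ (EE V' F₁).relIndex V' * (EE V' F₁).relIndex V' := by
  set B := BF V X F₁ with hBdef
  set E := EE V' F₁ with hEdef
  set Q := cj h (o2 (X i)) with hQ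
  set U := cj h (cl V (X i)) with hUdef
  -- a bad line
  have hl : ∃ x ∈ X i, ¬ cj (h * x) V ≤ E := by
    by_contra hcon
    push Not at hcon
    apply hE
    rw [hUdef]
    unfold cl
    rw [EZero.cj_iSup]
    refine iSup_le fun y => ?_
    rw [cj_cj]
    exact hcon y y.2
  obtain ⟨x, hx, hlE⟩ := hl
  set lam := cj (h * x) V with hlam
  have hlU : lam ≤ U := by
    rw [hlam, ← cj_cj]
    exact cj_mono h (cj_le_cl hx)
  have hlF : lam ⊓ F₁ = ⊥ := by
    by_contra h0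
    exact hlE (t.le_E (hlU.trans hU) h0)
  have hFF : cj h (F i) ⊓ F₁ = ⊥ := by
    rw [← le_bot_iff, ← hlF]
    refine inf_le_inf_right _ ?_
    rw [hlam, ← cj_cj]
    exact cj_mono h ((t.pan i).F_le_line hx)
  -- `[E₂, E₁] = 1`
  have hcomm : B ⊓ Q ≤ centralizer ((U ⊓ E : Subgroup G) : Set G) := by
    rintro e ⟨heB, heQ⟩
    rw [mem_centralizer_iff]
    rintro u ⟨huU, huE⟩
    have h1 := t.comm_mem_F hB hU hline huU heB heQ
    have h2 : ⁅u, e⁆ ∈ F₁ := by
      rw [commutatorElement_def]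
      exact t.hy.comm_EW huE (t.B_le_W heB)
    have h3 : ⁅u, e⁆ ∈ cj h (F i) ⊓ F₁ := ⟨h1, h2⟩
    rw [hFF, mem_bot, commutatorElement_eq_one_iff_mul_comm] at h3
    exact h3
  have hX0 : 0 < Q.relIndex B := Nat.pos_of_ne_zero index_ne_zero_of_finite
  -- `x ≤ ε`
  have hE2 : (centralizer (B : Set G)).relIndex (U ⊓ E) ≤ Q.relIndex B := by
    have h1 := t.noover_B (D := U ⊓ E) inf_le_right
    have h2 : (centralizer ((U ⊓ E : Subgroup G) : Set G)).relIndex B ≤ (B ⊓ Q).relIndex B :=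
      relIndex_le_of_le_left hcomm index_ne_zero_of_finite
    rw [inf_relIndex_left] at h2
    exact h1.trans h2
  have hUE : E.relIndex U ≤ E.relIndex V' := relIndex_le_of_le_right hU index_ne_zero_of_finite
  have hxe : Q.relIndex B ≤ E.relIndex V' := by
    have h1 := t.two_le (i := i) hB
    have h2 : (centralizer (B : Set G)).relIndex U ≤ (centralizer (B : Set G) ⊓ E).relIndex U :=
      relIndex_le_of_le_left inf_le_left index_ne_zero_of_finite
    rw [← relIndex_inf_mul_relIndex, inf_comm E U] at h2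
    have h3 : Q.relIndex B * Q.relIndex B ≤ Q.relIndex B * E.relIndex V' :=
      h1.trans (h2.trans (Nat.mul_le_mul hE2 hUE))
    exact Nat.le_of_mul_le_mul_left h3 hX0
  -- `|B : B ∩ N| ≤ |B : E₁| |E₁ : E₁ ∩ N|`
  have hN : (NN V' F₁).relIndex B ≤ (NN V' F₁).relIndex (B ⊓ Q) * Q.relIndex B := by
    rw [inf_comm B Q, relIndex_inf_mul_relIndex]
    exact relIndex_le_of_le_left inf_le_left index_ne_zero_of_finite
  -- the bad line
  have hcN : centralizer (lam : Set G) ⊓ (B ⊓ Q) ≤ NN V' F₁ := by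
    rintro s ⟨hs1, hs2, -⟩
    rw [SetLike.not_le_iff_exists] at hlE
    obtain ⟨w, hw, hwE⟩ := hlE
    have hwV : w ∈ V' := hU (hlU hw)
    rw [← t.hy.c_mem_F_iff hwV hwE (t.B_le_W hs2)]
    have h1 := mem_centralizer_iff.1 hs1 w hw
    rw [c_def, h1, mul_inv_cancel_right, mul_inv_cancel]
    exact one_mem _
  have hNl : (NN V' F₁).relIndex (B ⊓ Q) ≤ (centralizer (lam : Set G)).relIndex (B ⊓ Q) := by
    have h1 := relIndex_le_of_le_left (L := B ⊓ Q) hcN index_ne_zero_of_finite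
    rwa [inf_relIndex_right] at h1
  have hmain : 2 * (NN V' F₁).relIndex (B ⊓ Q) ≤ E.relIndex V' := by
    by_cases hc : B ⊓ Q ≤ centralizer (lam : Set G)
    · have h1 : (NN V' F₁).relIndex (B ⊓ Q) = 1 := by
        rw [relIndex_eq_one]
        exact (le_inf hc le_rfl).trans hcN
      rw [h1, mul_one]
      exact two_le_of_ne fun h0 => hE (hU.trans h0)
    · have h5 := ((t.pan i).nff.cj (h * x)) (B ⊓ Q) (t.isPGroup_B.to_le inf_le_left)
        (inf_le_right.trans (by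
          have := cj_norm (g := h) ((t.pan i).o2_norm_line hx)
          rwa [cj_cj] at this))
        (fun a ha => by rw [t.B_sq a ha.1]; exact one_mem _)
        (fun a ha b hb => by
          have e : a * b = b * a := (mem_centralizer_iff.1 (t.B_comm ha.1) b hb.1).symm
          rw [e, mul_inv_cancel_right, mul_inv_cancel]; exact one_mem _) hc
      have h6 := two_mul_le_of_lt (t.isPGroup_B.to_le inf_le_left)
        (isPGroup_cj _ (t.pan i).isPGroup_V) h5
      have h7 : (centralizer ((B ⊓ Q : Subgroup G) : Set G)).relIndex lam ≤ E.relIndex lam := by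
        have h8 : E ⊓ lam ≤ centralizer ((B ⊓ Q : Subgroup G) : Set G) :=
          (le_inf (inf_le_right.trans hlU) inf_le_left).trans (cent_symm hcomm)
        have h9 := relIndex_le_of_le_left (L := lam) h8 index_ne_zero_of_finite
        rwa [inf_relIndex_right] at h9
      have h8 : E.relIndex lam ≤ E.relIndex V' := relIndex_le_of_le_right (hlU.trans hU) index_ne_zero_of_finite
      calc 2 * (NN V' F₁).relIndex (B ⊓ Q) ≤ 2 * (centralizer (lam : Set G)).relIndex (B ⊓ Q) :=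
            Nat.mul_le_mul_left 2 hNl
        _ ≤ _ := h6
        _ ≤ _ := h7
        _ ≤ _ := h8
  calc 2 * (NN V' F₁).relIndex B ≤ 2 * ((NN V' F₁).relIndex (B ⊓ Q) * Q.relIndex B) := Nat.mul_le_mul_left 2 hN
    _ = (2 * (NN V' F₁).relIndex (B ⊓ Q)) * Q.relIndex B := by ring
    _ ≤ E.relIndex V' * E.relIndex V' := Nat.mul_le_mul hmain hxe

end BtF

end Cfsg.Agent.Omega.NO3b.BetaTwo

end

section


/-!
# THEOREM BETA2 for a family of panels (helper506, bb #21336 (A)), (3) and (4)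

`BtF.exists_B`, `BtF.relIndex_B`, `BtF.B_nle` (3), `BtF.line` (4) : `Line.lean` with `B = BF V X F₁`.
-/

set_option autoImplicit false

namespace Cfsg.Agent.Omega.NO3b.BetaTwo

open Subgroup Cfsg
open Cfsg.Agent.ZN.ChoiceBase (cj cj_cj cj_mono)
open Cfsg.Agent.Omega.NO3b.EZero
open Cfsg.Agent.Omega.NO3b.K0 (cj_of_le)
open Cfsg.Agent.Omega.NOne.Flat (EE WW NN)
open Cfsg.Agent.Omega.NOne.NearFF (c)

universe u v

namespace BtF

variable {G : Type u} [Group G] [Finite G] {ι : Type v} {V : Subgroup G} {F T X : ι → Subgroup G}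
  {L Q0 V' F₁ : Subgroup G} (t : BtF V F T X L Q0 V' F₁)
include t

theorem bn : BN V' F₁ (BF V X F₁) := ⟨t.B_le_W, X'_norm_B⟩

/-- **(3)** -/
theorem exists_B {w : G} (hw : w ∈ V') (hwE : w ∉ EE V' F₁) {r : G} (hr : r ∈ V' ⊓ BF V X F₁) :
    ∃ b ∈ BF V X F₁, c w b * r⁻¹ ∈ F₁ := by
  obtain ⟨s, hs, h1⟩ := t.bn.surj t.hy hw hwE hr
  refine ⟨s, hs, ?_⟩
  rwa [t.hy.inv (t.hy.c_memV hw (t.B_le_W hs)), ← t.hy.inv hr.1] at h1

/-- **(3)** -/
theorem relIndex_B : (NN V' F₁).relIndex (BF V X F₁) = F₁.relIndex (V' ⊓ BF V X F₁) := t.bn.relIndex_eq t.hy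

theorem B_nle : ¬ BF V X F₁ ≤ NN V' F₁ := by
  intro h0
  obtain ⟨i, hi⟩ := t.WX
  have h1 := t.relIndex_B
  rw [relIndex_eq_one.2 h0] at h1
  have h2 : V' ⊓ BF V X F₁ ≤ F₁ := relIndex_eq_one.1 h1.symm
  have h3 : cl V (X i) ≤ F₁ := (le_inf (t.UV i) (U_le_B i)).trans h2
  have h4 : WW V' F₁ ≤ centralizer (cl V (X i) : Set G) :=
    NOne.Flat.Hyp.W_le_X.trans (centralizer_le h3)
  exact hi ((t.pan i).le_o2_of_cent_U NOne.Flat.Hyp.W_isPGroup (t.WQ.trans (t.pan i).Q0_X) h4)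

/-- **(4)** -/
theorem line {h : G} {i : ι} (hU : cj h (cl V (X i)) ≤ V') {x : G} (hx : x ∈ X i)
    (hn : BF V X F₁ ≤ normalizer ((cj (h * x) V : Subgroup G) : Set G)) :
    BF V X F₁ ≤ centralizer ((cj (h * x) V : Subgroup G) : Set G) := by
  have h1 : cj (h * x) V ≤ V' := by
    rw [← cj_cj]
    exact (cj_mono h (cj_le_cl hx)).trans hU
  by_cases hE : cj (h * x) V ≤ EE V' F₁
  · refine B_le fun j y hy => ?_
    have h2 : cl V (X j) ≤ centralizer ((cj (y⁻¹ * (h * x)) V : Subgroup G) : Set G) := by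
      refine cent_symm (t.sm j (y⁻¹ * (h * x)) ?_ ?_)
      · rw [← cj_cj]
        exact ((cj_mono _ hE).trans (Bt.conjE_le_W' (inv_mem hy))).trans (t.WQ.trans (t.pan j).Q0_X)
      · have h3 := cj_norm (g := y⁻¹) hn
        rw [cj_of_le X'_norm_B (inv_mem hy), cj_cj] at h3
        exact (U_le_B j).trans h3
    have h3 := cj_cent (g := y) h2
    rwa [cj_cj, mul_inv_cancel_left] at h3
  · have hF : cj (h * x) V ⊓ F₁ = ⊥ := by
      by_contra h2
      exact hE (t.le_E h1 h2)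
    exact absurd hn (t.bn.no_line t.hy h1 hE hF ((t.pan i).nff.cj _) t.B_nle t.B_sq t.B_comm)

end BtF

end Cfsg.Agent.Omega.NO3b.BetaTwo

end

end

-- merged: Cfsg.Agent.Mrg.Omega.NO3b.BetaTwo.Plug
section

section


/-!
# THEOREM BETA2 (bb #20914): the frame at a member of the chain

`Stage S L`, `(F, T, X)` a panel of `V = VL S L`, `Z ≤ F`, `H = nx S L X`, `V_H = zl S H` not FF and not in
`O₂(C_G(Z))`: `exists_bt` : `Bt V F T X (N_G(C_S(V))) C_S(V) V' F₁`, `V' = VL S (LH S H)`, with `⟨V^H⟩ ≤ V'`,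
`⟨V^H⟩ ≰ E`.
-/

set_option autoImplicit false

namespace Cfsg.Agent.Omega.NO3b.BetaTwo

open Subgroup Cfsg
open Cfsg.Agent.ZN (o2 zc zl)
open Cfsg.Agent.ZN.ChoiceBase hiding mem_zc
open Cfsg.Agent.Omega.NO3b.EZero (NotFF Par cent_symm cj_cent cl le_cl cj_le_cl cl_le le_normalizer_cl)
open Cfsg.Agent.Omega.NO3b.Alpha (Fl)
open Cfsg.Agent.Omega.NO3b.Wc
open Cfsg.Agent.Omega.NO3b.Exit
open Cfsg.Agent.Omega.NO3b.Chain
open Cfsg.Agent.Omega.NO3b.K0.Mix (Pan SM Two)
open Cfsg.Agent.Omega.NOne.Flat (EE WW NN)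
open Cfsg.Agent.Omega.NOne.NearFF (c)
open Cfsg.Agent.MinSimple.VModule (zc_le_zl le_normalizer_zl zl_le)

universe u

variable {G : Type u} [Group G] [Finite G] {S : Sylow 2 G} {L F T X : Subgroup G}

/-- the lines are good -/
theorem good_cj (h : Stage S L) (hc : IsCharacteristicTwoType G) (g : G) (D : Subgroup G)
    (hD : D ≤ cj g (VL (S : Subgroup G) L)) (hD1 : D ≠ ⊥) :
    cj g (VL (S : Subgroup G) L) ≤ o2 (centralizer (D : Set G)) := by
  have h1 := h.good hc (D := cj g⁻¹ D) (by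
    have h1 := cj_mono g⁻¹ hD
    rwa [cj_inv_cj] at h1) (fun h0 => hD1 (by
    have h1 := congrArg (cj g) h0
    rwa [cj_cj_inv, K0.cj_bot'] at h1))
  have h2 := cj_mono g h1
  rwa [← Cfsg.Agent.ZN.ChoiceBase.pCore_cj, cj_centralizer, cj_cj_inv] at h2

section

variable (h : Stage S L) (hc : IsCharacteristicTwoType G) (hne : zc (S : Subgroup G) ≠ ⊥)
  (f : Fl S (VL (S : Subgroup G) L) F T) (hZ : zc (S : Subgroup G) ≤ F)
  (p : Par (VL (S : Subgroup G) L) F T X)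
include h hc hne f hZ p

theorem exists_bt (hno : NoOver (VL (S : Subgroup G) L) X) (hn : NotFF (zl (S : Subgroup G) (nx (S : Subgroup G) L X)))
    (hV : ¬ zl (S : Subgroup G) (nx (S : Subgroup G) L X) ≤ o2 (centralizer (zc (S : Subgroup G) : Set G))) :
    ∃ F₁ : Subgroup G, Bt (VL (S : Subgroup G) L) F T X
      (normalizer (((S : Subgroup G) ⊓ centralizer (VL (S : Subgroup G) L : Set G) : Subgroup G) : Set G))
      ((S : Subgroup G) ⊓ centralizer (VL (S : Subgroup G) L : Set G))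
      (VL (S : Subgroup G) (LH (S : Subgroup G) (nx (S : Subgroup G) L X))) F₁ ∧
      ¬ cl (VL (S : Subgroup G) L) (nx (S : Subgroup G) L X) ≤
        EE (VL (S : Subgroup G) (LH (S : Subgroup G) (nx (S : Subgroup G) L X))) F₁ ∧
      cl (VL (S : Subgroup G) L) (nx (S : Subgroup G) L X) ≤
        VL (S : Subgroup G) (LH (S : Subgroup G) (nx (S : Subgroup G) L X)) := by
  set V := VL (S : Subgroup G) L with hVd
  set H := nx (S : Subgroup G) L X with hH
  set V' := VL (S : Subgroup G) (LH (S : Subgroup G) H) with hV'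
  have fr := h.fr hc hne f hZ p
  have a := h.adm hc hne
  have l := h.lines hc hne
  have hOff := Final.stmtOff G
  have hle : zl (S : Subgroup G) H ≤ V' := fr.zl_le_V' a hn
  obtain ⟨F₁, hF₁, hWB, hWX, -⟩ := fr.beta a hc hOff (S_ne hne) hn (fun h0 => hV (hle.trans h0))
  have root : Root S (LH (S : Subgroup G) H) := root_LH (fr.SH a) fr.char2 hn
  have hy : NOne.Flat.Hyp V' F₁ := hyp_of hc root hF₁
  have pn := pan f l p fun g hg => Alpha.ti hc l g hg
  have hVH : cl V H ≤ zl (S : Subgroup G) H := by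
    refine cl_le fun x hx => ?_
    have h1 := cj_mono x fr.V_le
    rwa [cj_eq_of_mem_normalizer (le_normalizer_zl _ _ hx)] at h1
  have hHV : zl (S : Subgroup G) H ≤ cl V H :=
    zl_le (l.ZV.trans (le_cl _ _)) (le_normalizer_cl V H)
  have hUH : cl V X ≤ zl (S : Subgroup G) H := fr.U_le
  refine ⟨F₁, ?_, fun h0 => ?_, hVH.trans hle⟩
  · exact
      { pan := pn
        noov := K0.noOv FFBr.aStmt (f.sylX p) (f.isMinPar l p)
        sm := sm l hc pn
        two := h.two hc hne f hZ p (Or.inr hV)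
        hno := hno
        hy := hy
        hoff := hOff _ _ hy
        good := good_cj h hc
        WQ := by
          have h1 := h.toRoot.cs_V
          rw [h1]
          exact hWB
        WX := hWX
        UV := hUH.trans hle }
  · -- `W` centralises `V_H`
    have h1 : zl (S : Subgroup G) H ≤ EE V' F₁ := hHV.trans h0
    have h2 := hy.off_of_le (hOff _ _ hy) h1
    have hW2 : IsPGroup 2 (WW V' F₁) := WW_pgroup _ _
    have hWH : WW V' F₁ ≤ normalizer (zl (S : Subgroup G) H : Set G) :=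
      ((hWB.trans a.wc.le).trans (fr.SH a)).trans (le_normalizer_zl _ _)
    obtain ⟨e1, e2⟩ := hy.elem_W hle
    by_cases hcen : WW V' F₁ ≤ centralizer (zl (S : Subgroup G) H : Set G)
    · exact hWX (pn.le_o2_of_cent_U hW2 ((hWB.trans fr.BT).trans fr.syl.1) (hcen.trans (centralizer_le hUH)))
    · have h3 := hn (WW V' F₁) hW2 hWH (fun s hs => by rw [pow_two]; exact e2 s hs)
        (fun s hs t ht => e1 s hs t ht) hcen
      exact absurd h2 (not_le.2 h3)

end

end Cfsg.Agent.Omega.NO3b.BetaTwo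

end

section


/-!
# THEOREM BETA2 (bb OMEGA #20914, helper235), (6)

`Flat.Hyp V F` (the text's `V'`, `F₁`), `W = W_F`, `E = V ∩ O₂(C_G(F))`, `N = C_W(E)`, `B ≤ W`, `C_G(F) ≤ N(B)`,
`c w s = [w, s]`.  `W` acts on `V` as an abelian group: `[[w, b], s] = [[w, s], b]`.

* `Key.comm_left`, `Key.comm_right` : `{[r, s] : s ∈ W} = {[e, b] : e ∈ E}` for `r ∈ [w, b] F`, `w ∈ V - E`;
* `Key.meet` : `|V ∩ B : V ∩ B ∩ F| < |V : E|²`: for `b, b' ∈ B - N` there are `w, w' ∈ V - E` with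
  `[w, b] F = [w', b'] F`;
* `Key.key`, `Bt.key` : **(6)** `{[r, s] : s ∈ W}` is the same group for all `r ∈ V ∩ B - F`.

Author: helper111.
-/

set_option autoImplicit false

namespace Cfsg.Agent.Omega.NO3b.BetaTwo

open Subgroup Cfsg
open Cfsg.Agent.Omega.NOne.Flat (Hyp EE WW NN)
open Cfsg.Agent.Omega.NOne.NearFF (c c_def)

universe u

variable {G : Type u} [Group G] [Finite G]

namespace Key

variable {V F B : Subgroup G} (h : Hyp V F)
include h

/-- `[r, s] = [[w, s], b]` for `r ∈ [w, b] F` -/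
theorem comm_left {w b r s : G} (hw : w ∈ V) (hb : b ∈ WW V F) (hs : s ∈ WW V F) (hr : r ∈ V)
    (hrb : (c w b)⁻¹ * r ∈ F) : c r s = c (c w s) b := by
  rw [← h.c_congr_left (h.c_memV hw hb) hr hs hrb, h.beta_comm hw hb hs]

/-- for `e ∈ E` there is `s ∈ W` with `[r, s] = [e, b]` -/
theorem comm_right {w b r e : G} (hw : w ∈ V) (hwE : w ∉ EE V F) (hb : b ∈ WW V F) (hr : r ∈ V)
    (hrb : (c w b)⁻¹ * r ∈ F) (he : e ∈ EE V F) : ∃ s ∈ WW V F, c r s = c e b := by
  obtain ⟨s, hs, hse⟩ := h.surj hw hwE he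
  refine ⟨s, hs, ?_⟩
  rw [comm_left h hw hb hs hr hrb]
  refine h.c_congr_left (h.c_memV hw hs) he.1 hb ?_
  rw [h.inv (h.c_memV hw hs)]
  rw [h.inv he.1] at hse
  exact hse

/-- `[w w', b] = [w, b] [w', b]`, for `w⁻¹ w'` -/
theorem c_inv_mul {w w' b : G} (hw : w ∈ V) (hw' : w' ∈ V) (hb : b ∈ WW V F) :
    c (w⁻¹ * w') b = (c w b)⁻¹ * c w' b := by
  rw [h.c_mul_left (inv_mem hw) hw' hb, h.c_inv_left hw hb]

/-- for `b, b' ∈ B - N` there are `w, w' ∈ V - E` with `[w, b] F = [w', b'] F`. -/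
theorem meet (hW : B ≤ WW V F) (hX : centralizer (F : Set G) ≤ normalizer (B : Set G))
    (hc : F.relIndex (V ⊓ B) < (EE V F).relIndex V * (EE V F).relIndex V) {b b' : G} (hb : b ∈ B)
    (hb' : b' ∈ B) (hbN : b ∉ NN V F) (hbN' : b' ∉ NN V F) :
    ∃ w ∈ V, ∃ w' ∈ V, w ∉ EE V F ∧ w' ∉ EE V F ∧ (c w b)⁻¹ * c w' b' ∈ F := by
  have hcB : ∀ w ∈ V, ∀ s ∈ B, c w s ∈ V ⊓ B := fun w hw s hs => by
    refine mem_inf.2 ⟨h.c_memV hw (hW hs), ?_⟩
    have h1 := (mem_normalizer_iff.1 (hX (h.V_le_X hw)) s).1 hs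
    rw [c_def]
    exact mul_mem h1 (inv_mem hs)
  -- a non-injective map
  let f : (V ⧸ (EE V F).subgroupOf V) × (V ⧸ (EE V F).subgroupOf V) →
      ((V ⊓ B : Subgroup G) ⧸ F.subgroupOf (V ⊓ B)) := fun x =>
    QuotientGroup.mk ⟨c (x.1.out : G) b * c (x.2.out : G) b',
      mul_mem (hcB _ x.1.out.2 b hb) (hcB _ x.2.out.2 b' hb')⟩
  have hf : ¬ Function.Injective f := by
    intro hinj
    have h1 := Nat.card_le_card_of_injective f hinj
    rw [Nat.card_prod] at h1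
    exact absurd h1 (not_le.2 hc)
  rw [Function.Injective] at hf
  push Not at hf
  obtain ⟨x, y, hxy, hne⟩ := hf
  have h1 : ((⟨c (x.1.out : G) b * c (x.2.out : G) b', _⟩ : (V ⊓ B : Subgroup G))⁻¹ *
      ⟨c (y.1.out : G) b * c (y.2.out : G) b', mul_mem (hcB _ y.1.out.2 b hb) (hcB _ y.2.out.2 b' hb')⟩) ∈
        F.subgroupOf (V ⊓ B) := QuotientGroup.eq.1 hxy
  rw [mem_subgroupOf] at h1
  simp only [coe_mul, coe_inv] at h1
  set w := (x.1.out : G)⁻¹ * (y.1.out : G) with hwd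
  set w' := (x.2.out : G)⁻¹ * (y.2.out : G) with hwd'
  have hw : w ∈ V := mul_mem (inv_mem x.1.out.2) y.1.out.2
  have hw' : w' ∈ V := mul_mem (inv_mem x.2.out.2) y.2.out.2
  have e1 : c w b * c w' b' ∈ F := by
    rw [hwd, hwd', c_inv_mul h x.1.out.2 y.1.out.2 (hW hb), c_inv_mul h x.2.out.2 y.2.out.2 (hW hb')]
    have k1 := h.c_memV x.1.out.2 (hW hb)
    have k2 := h.c_memV y.1.out.2 (hW hb)
    have k3 := h.c_memV x.2.out.2 (hW hb')
    have k4 := h.c_memV y.2.out.2 (hW hb')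
    have e : (c (x.1.out : G) b)⁻¹ * c (y.1.out : G) b * ((c (x.2.out : G) b')⁻¹ * c (y.2.out : G) b') =
        (c (x.1.out : G) b * c (x.2.out : G) b')⁻¹ * (c (y.1.out : G) b * c (y.2.out : G) b') := by
      rw [mul_inv_rev, h.V_comm (inv_mem k3) (inv_mem k1)]
      rw [mul_assoc, mul_assoc, ← mul_assoc (c (y.1.out : G) b), h.V_comm k2 (inv_mem k3), mul_assoc]
    rw [e]
    exact h1
  have hE1 : w ∈ EE V F → w' ∈ EE V F := fun hwE => by
    refine h.mem_E_of_c hw' (hW hb') hbN' ?_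
    have k1 : c w b ∈ F := h.comm_EW hwE (hW hb)
    have := mul_mem (inv_mem k1) e1
    rwa [inv_mul_cancel_left] at this
  have hE2 : w' ∈ EE V F → w ∈ EE V F := fun hwE => by
    refine h.mem_E_of_c hw (hW hb) hbN ?_
    have k1 : c w' b' ∈ F := h.comm_EW hwE (hW hb')
    have := mul_mem e1 (inv_mem k1)
    rwa [mul_inv_cancel_right] at this
  have hnE : w ∉ EE V F := by
    intro hwE
    apply hne
    have q1 : x.1 = y.1 := by
      rw [← QuotientGroup.out_eq' x.1, ← QuotientGroup.out_eq' y.1]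
      exact QuotientGroup.eq.2 (mem_subgroupOf.2 hwE)
    have q2 : x.2 = y.2 := by
      rw [← QuotientGroup.out_eq' x.2, ← QuotientGroup.out_eq' y.2]
      exact QuotientGroup.eq.2 (mem_subgroupOf.2 (hE1 hwE))
    exact Prod.ext q1 q2
  refine ⟨w, hw, w', hw', hnE, fun h2 => hnE (hE2 h2), ?_⟩
  rw [h.inv (h.c_memV hw (hW hb))]
  exact e1

/-- `{[e, b] : e ∈ E}` does not depend on `b ∈ B - N`. -/
theorem same (hW : B ≤ WW V F) (hX : centralizer (F : Set G) ≤ normalizer (B : Set G))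
    (hc : F.relIndex (V ⊓ B) < (EE V F).relIndex V * (EE V F).relIndex V) {b b' : G} (hb : b ∈ B)
    (hb' : b' ∈ B) (hbN : b ∉ NN V F) (hbN' : b' ∉ NN V F) {e : G} (he : e ∈ EE V F) :
    ∃ e' ∈ EE V F, c e' b' = c e b := by
  obtain ⟨w, hw, w', hw', hwE, hwE', h1⟩ := meet h hW hX hc hb hb' hbN hbN'
  have k1 := h.c_memV hw (hW hb)
  have k2 := h.c_memV hw' (hW hb')
  -- `r = [w', b']`
  obtain ⟨s, hs, hse⟩ := comm_right h hw hwE (hW hb) k2 h1 he
  refine ⟨c w' s, h.c_memE hw' hs, ?_⟩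
  rw [← hse]
  refine (comm_left h hw' (hW hb') hs k2 ?_).symm
  rw [inv_mul_cancel]
  exact one_mem _

/-- **(6)** -/
theorem key (hW : B ≤ WW V F) (hX : centralizer (F : Set G) ≤ normalizer (B : Set G))
    (h3 : ∀ w ∈ V, w ∉ EE V F → ∀ r ∈ V ⊓ B, ∃ b ∈ B, c w b * r⁻¹ ∈ F) (hBN : ¬ B ≤ NN V F)
    (hc : F.relIndex (V ⊓ B) < (EE V F).relIndex V * (EE V F).relIndex V) :
    ∃ ρ : Subgroup G, ∀ r ∈ V ⊓ B, r ∉ F → ∀ d, d ∈ ρ ↔ ∃ s ∈ WW V F, c r s = d := by
  obtain ⟨b₀, hb₀, hbN₀⟩ := SetLike.not_le_iff_exists.1 hBN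
  let ρ : Subgroup G :=
    { carrier := {d | ∃ e ∈ EE V F, c e b₀ = d}
      one_mem' := ⟨1, one_mem _, by rw [c_def]; group⟩
      mul_mem' := by
        rintro _ _ ⟨e, he, rfl⟩ ⟨e', he', rfl⟩
        exact ⟨e * e', mul_mem he he', h.c_mul_left he.1 he'.1 (hW hb₀)⟩
      inv_mem' := by
        rintro _ ⟨e, he, rfl⟩
        exact ⟨e⁻¹, inv_mem he, h.c_inv_left he.1 (hW hb₀)⟩ }
  refine ⟨ρ, fun r hr hrF d => ?_⟩
  obtain ⟨w, hw, hwE⟩ := h.exists_not_mem
  obtain ⟨b, hb, hrb⟩ := h3 w hw hwE r hr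
  have hrV : r ∈ V := hr.1
  have hcV := h.c_memV hw (hW hb)
  have hbN : b ∉ NN V F := by
    intro h1
    apply hrF
    have h2 := mul_mem (inv_mem (h.c_mem_F hw h1)) hrb
    rw [inv_mul_cancel_left] at h2
    exact (inv_mem_iff).1 h2
  have hrb' : (c w b)⁻¹ * r ∈ F := by
    rw [h.inv hcV]
    rw [h.inv hrV] at hrb
    exact hrb
  constructor
  · rintro ⟨e, he, rfl⟩
    obtain ⟨e', he', h4⟩ := same h hW hX hc hb₀ hb hbN₀ hbN he
    obtain ⟨s, hs, h5⟩ := comm_right h hw hwE (hW hb) hrV hrb' he'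
    exact ⟨s, hs, h5.trans h4⟩
  · rintro ⟨s, hs, rfl⟩
    obtain ⟨e', he', h4⟩ := same h hW hX hc hb hb₀ hbN hbN₀ (h.c_memE hw hs)
    exact ⟨e', he', by rw [h4, comm_left h hw (hW hb) hs hrV hrb']⟩

end Key

/-- **(6)** -/
theorem Bt.key {V F T X L Q0 V' F₁ : Subgroup G} (t : Bt V F T X L Q0 V' F₁)
    (h3 : ∀ w ∈ V', w ∉ EE V' F₁ → ∀ r ∈ V' ⊓ BB V X F₁, ∃ b ∈ BB V X F₁, c w b * r⁻¹ ∈ F₁)
    (h3' : (NN V' F₁).relIndex (BB V X F₁) = F₁.relIndex (V' ⊓ BB V X F₁))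
    (hBN : ¬ BB V X F₁ ≤ NN V' F₁)
    (hc : 2 * (NN V' F₁).relIndex (BB V X F₁) ≤ (EE V' F₁).relIndex V' * (EE V' F₁).relIndex V') :
    ∃ ρ : Subgroup G, ∀ r ∈ V' ⊓ BB V X F₁, r ∉ F₁ → ∀ d, d ∈ ρ ↔ ∃ s ∈ WW V' F₁, c r s = d := by
  have h0 : 0 < F₁.relIndex (V' ⊓ BB V X F₁) := Nat.pos_of_ne_zero index_ne_zero_of_finite
  rw [h3'] at hc
  exact Key.key t.hy t.B_le_W Bt.X'_norm_B h3 hBN (by omega)

end Cfsg.Agent.Omega.NO3b.BetaTwo

end

section


/-!
# THEOREM BETA2 (helper235 #20914), step (7): the end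

`V' = V_{LH}`, `F₁` maximal bad in `V'`, `W = WW V' F₁`, `U = cl V X ≤ E = EE V' F₁`, `[r, W] = ρ` is the same group
for all `r ∈ U - F₁`.

* `card_le` : a pairing `A × B → R` which is onto for every `a ∈ A - F` gives `|A : F| ≤ |B : C|`;
* `inf_F₁` : a line `V₁` moved by `W` meets `F₁` in `F`;
* `cent_moved` : `N_W(V₁)` centralises a moved line; `cent_unmoved` : `W` centralises an unmoved line;
* `end_` : the contradiction.
-/

set_option autoImplicit false

namespace Cfsg.Agent.Omega.NO3b.BetaTwo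

open Subgroup Cfsg Cfsg.Agent.ZN Cfsg.Agent.ZN.ChoiceBase
open Cfsg.Agent.ZN.ChoiceSit hiding EE
open Cfsg.Agent.MinSimple.VModule (oddGen oddGen_le)
open Cfsg.Agent.Omega.NO3b.EZero
open Cfsg.Agent.Omega.NO3b.K0 (NoOv)
open Cfsg.Agent.Omega.NO3b.K0.Mix (Pan Two)
open Cfsg.Agent.Omega.NOne (Flat.Hyp)
open Cfsg.Agent.Omega.NOne.Flat (EE WW)
open Cfsg.Agent.Omega.NOne.NearFF (c c_def)

universe u

/-! ### a pairing -/

theorem sum_units {B : Type*} [Group B] [Fintype B] (t : B → ℤˣ) (ht : ∀ b b', t (b * b') = t b * t b') :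
    ∑ b, ((t b : ℤˣ) : ℤ) = by classical exact if (∀ b, t b = 1) then (Fintype.card B : ℤ) else 0 := by
  classical
  split_ifs with h
  · simp [h]
  · push Not at h
    obtain ⟨c, hc⟩ := h
    have hc' : t c = -1 := (Int.units_eq_one_or (t c)).resolve_left hc
    have h1 : ∑ b, ((t b : ℤˣ) : ℤ) = ∑ b, ((t (c * b) : ℤˣ) : ℤ) :=
      (Fintype.sum_equiv (Equiv.mulLeft c) _ _ (fun b => rfl)).symm
    have h2 : ∑ b, ((t (c * b) : ℤˣ) : ℤ) = - ∑ b, ((t b : ℤˣ) : ℤ) := by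
      rw [← Finset.sum_neg_distrib]
      refine Finset.sum_congr rfl fun b _ => ?_
      rw [ht, hc']
      simp
    omega

/-- double counting for a pairing with values `±1` -/
theorem pairing_units {A B : Type*} [Group A] [Group B] [Finite A] [Finite B] (s : A → B → ℤˣ)
    (hl : ∀ a a' b, s (a * a') b = s a b * s a' b) (hr : ∀ a b b', s a (b * b') = s a b * s a b') :
    Nat.card {a // ∀ b, s a b = 1} * Nat.card B = Nat.card A * Nat.card {b // ∀ a, s a b = 1} := by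
  classical
  have := Fintype.ofFinite A
  have := Fintype.ofFinite B
  have h1 : ∑ a, ∑ b, ((s a b : ℤˣ) : ℤ) = Nat.card {a // ∀ b, s a b = 1} * Nat.card B := by
    have : ∀ a, ∑ b, ((s a b : ℤˣ) : ℤ) = if (∀ b, s a b = 1) then (Fintype.card B : ℤ) else 0 :=
      fun a => by
        rw [sum_units (s a) (hr a)]
    simp only [this]
    rw [Finset.sum_ite, Finset.sum_const_zero, add_zero, Finset.sum_const, nsmul_eq_mul,
      Nat.card_eq_fintype_card, Nat.card_eq_fintype_card, Fintype.card_subtype]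
  have h2 : ∑ b, ∑ a, ((s a b : ℤˣ) : ℤ) = Nat.card {b // ∀ a, s a b = 1} * Nat.card A := by
    have : ∀ b, ∑ a, ((s a b : ℤˣ) : ℤ) = if (∀ a, s a b = 1) then (Fintype.card A : ℤ) else 0 :=
      fun b => by
        rw [sum_units (fun a => s a b) (fun a a' => hl a a' b)]
    simp only [this]
    rw [Finset.sum_ite, Finset.sum_const_zero, add_zero, Finset.sum_const, nsmul_eq_mul,
      Nat.card_eq_fintype_card, Nat.card_eq_fintype_card, Fintype.card_subtype]
  rw [Finset.sum_comm, h2] at h1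
  have h3 : (Nat.card {a // ∀ b, s a b = 1} * Nat.card B : ℤ) =
      Nat.card A * Nat.card {b // ∀ a, s a b = 1} := by rw [← h1, mul_comm]
  exact_mod_cast h3

variable {G : Type u} [Group G]

/-- a maximal subgroup of an elementary abelian 2-group which avoids `d` has index 2 -/
theorem exists_two [Finite G] {R : Subgroup G} (hsq : ∀ r ∈ R, r ^ 2 = 1) (hc : R ≤ centralizer (R : Set G))
    (hne : R ≠ ⊥) : ∃ K : Subgroup G, ¬ R ≤ K ∧ ∀ a ∈ R, ∀ b ∈ R, (a * b ∈ K ↔ (a ∈ K ↔ b ∈ K)) := by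
  obtain ⟨⟨d, hd⟩, hd0⟩ := ne_bot_iff_exists_ne_one.1 hne
  have hd1 : d ≠ 1 := fun h => hd0 (Subtype.ext h)
  obtain ⟨K, hK, hmax⟩ := Set.exists_max_image {K : Subgroup G | K ≤ R ∧ d ∉ K} (fun K => Nat.card K)
    (Set.toFinite _) ⟨⊥, bot_le, fun h => hd1 (mem_bot.1 h)⟩
  obtain ⟨hKR, hdK⟩ := hK
  have hcm : ∀ a ∈ R, ∀ b ∈ R, a * b = b * a := fun a ha b hb => mem_centralizer_iff.1 (hc hb) a ha
  have hmul : ∀ a ∈ R, a * a = 1 := fun a ha => by have := hsq a ha; rwa [pow_two] at this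
  -- `a ∉ K ⟹ d a ∈ K`
  have key : ∀ a ∈ R, a ∉ K → d * a ∈ K := by
    intro a ha haK
    let K' : Subgroup G :=
      { carrier := {x | x ∈ K ∨ x * a ∈ K}
        one_mem' := Or.inl (one_mem _)
        mul_mem' := by
          rintro x y (hx | hx) (hy | hy)
          · exact Or.inl (mul_mem hx hy)
          · exact Or.inr (by rw [mul_assoc]; exact mul_mem hx hy)
          · right
            have hyR := hKR hy
            have e : x * y * a = x * a * y := by rw [mul_assoc, ← hcm a ha y hyR, ← mul_assoc]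
            rw [e]; exact mul_mem hx hy
          · left
            have h1 := mul_mem hx hy
            have hyR : y ∈ R := by
              have := R.mul_mem (hKR hy) (R.inv_mem ha)
              rwa [mul_inv_cancel_right] at this
            have e : x * a * (y * a) = x * y := by
              rw [← hcm a ha y hyR]
              calc x * a * (a * y) = x * (a * a) * y := by group
                _ = x * y := by rw [hmul a ha, mul_one]
            rwa [e] at h1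
        inv_mem' := by
          rintro x (hx | hx)
          · exact Or.inl (inv_mem hx)
          · right
            have hxR : x ∈ R := by
              have := R.mul_mem (hKR hx) (R.inv_mem ha)
              rwa [mul_inv_cancel_right] at this
            have e : x⁻¹ = x := inv_eq_of_mul_eq_one_left (hmul x hxR)
            rw [e]; exact hx }
    have hKK' : K ≤ K' := fun x hx => Or.inl hx
    have haK' : a ∈ K' := Or.inr (by rw [hmul a ha]; exact one_mem _)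
    have hK'R : K' ≤ R := by
      rintro x (hx | hx)
      · exact hKR hx
      · have := R.mul_mem (hKR hx) (R.inv_mem ha)
        rwa [mul_inv_cancel_right] at this
    have hdK' : d ∈ K' := by
      by_contra hcon
      have h1 := hmax K' ⟨hK'R, hcon⟩
      have h2 := eq_of_le_of_card_ge hKK' h1
      exact haK (h2 ▸ haK')
    exact hdK'.resolve_left hdK
  refine ⟨K, fun h => hdK (h hd), fun a ha b hb => ?_⟩
  constructor
  · intro hab
    constructor
    · intro haK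
      have := mul_mem (inv_mem haK) hab
      rwa [inv_mul_cancel_left] at this
    · intro hbK
      have := mul_mem hab (inv_mem hbK)
      rwa [mul_inv_cancel_right] at this
  · intro h
    by_cases haK : a ∈ K
    · exact mul_mem haK (h.1 haK)
    · have hbK : b ∉ K := fun hb' => haK (h.2 hb')
      have h1 := mul_mem (key a ha haK) (key b hb hbK)
      have e : d * a * (d * b) = a * b := by
        rw [hcm d hd a ha]
        calc a * d * (d * b) = a * (d * d) * b := by group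
          _ = a * b := by rw [hmul d hd, mul_one]
      rwa [e] at h1

/-- a pairing `A × B → R`, onto for every `a ∈ A - F` -/
theorem card_le [Finite G] {A B F C R : Subgroup G} (hFA : F ≤ A) (hCB : C ≤ B)
    (hsq : ∀ r ∈ R, r ^ 2 = 1) (hRc : R ≤ centralizer (R : Set G)) (hne : R ≠ ⊥)
    (hc : ∀ a ∈ A, ∀ b ∈ B, c a b ∈ R)
    (hl : ∀ a ∈ A, ∀ a' ∈ A, ∀ b ∈ B, c (a * a') b = c a b * c a' b)
    (hr : ∀ a ∈ A, ∀ b ∈ B, ∀ b' ∈ B, c a (b * b') = c a b * c a b')
    (hs : ∀ a ∈ A, a ∉ F → ∀ r ∈ R, ∃ b ∈ B, c a b = r)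
    (hC : ∀ a ∈ A, ∀ b ∈ C, c a b = 1) : F.relIndex A ≤ C.relIndex B := by
  classical
  obtain ⟨K, hRK, hK⟩ := exists_two hsq hRc hne
  let s : A → B → ℤˣ := fun a b => if c (a : G) (b : G) ∈ K then 1 else -1
  have hsg : ∀ x ∈ R, ∀ y ∈ R, (if x * y ∈ K then (1 : ℤˣ) else -1) =
      (if x ∈ K then 1 else -1) * (if y ∈ K then 1 else -1) := by
    intro x hx y hy
    have h1 := hK x hx y hy
    by_cases h2 : x ∈ K <;> by_cases h3 : y ∈ K <;> simp [h1, h2, h3]
  have h1 := pairing_units s (fun a a' b => by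
      change (if c ((a : G) * (a' : G)) (b : G) ∈ K then (1 : ℤˣ) else -1) = _
      rw [hl a a.2 a' a'.2 b b.2]
      exact hsg _ (hc a a.2 b b.2) _ (hc a' a'.2 b b.2))
    (fun a b b' => by
      change (if c (a : G) ((b : G) * (b' : G)) ∈ K then (1 : ℤˣ) else -1) = _
      rw [hr a a.2 b b.2 b' b'.2]
      exact hsg _ (hc a a.2 b b.2) _ (hc a a.2 b' b'.2))
  have h2 : Nat.card {a : A // ∀ b, s a b = 1} ≤ Nat.card F := by
    refine Nat.card_le_card_of_injective (fun a => (⟨(a.1 : G), ?_⟩ : F)) ?_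
    · by_contra hcon
      obtain ⟨r, hr1, hr2⟩ := SetLike.not_le_iff_exists.1 hRK
      obtain ⟨b, hb, hbr⟩ := hs a.1 a.1.2 hcon r hr1
      have h3 := a.2 ⟨b, hb⟩
      change (if c (a.1 : G) b ∈ K then (1 : ℤˣ) else -1) = 1 at h3
      rw [hbr, if_neg hr2] at h3
      exact absurd h3 (by decide)
    · intro a b hab
      exact Subtype.ext (Subtype.ext (congrArg (fun x : F => (x : G)) hab))
  have h3 : Nat.card C ≤ Nat.card {b : B // ∀ a, s a b = 1} := by
    refine Nat.card_le_card_of_injective (fun x => ⟨⟨(x : G), hCB x.2⟩, fun a => ?_⟩) ?_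
    · change (if c (a : G) (x : G) ∈ K then (1 : ℤˣ) else -1) = 1
      rw [hC a a.2 x x.2, if_pos (one_mem _)]
    · intro a b hab
      have := congrArg (fun x : {b : B // ∀ a, s a b = 1} => ((x : B) : G)) hab
      exact Subtype.ext this
  have h4 : Nat.card A * Nat.card C ≤ Nat.card F * Nat.card B :=
    calc Nat.card A * Nat.card C ≤ Nat.card A * Nat.card {b : B // ∀ a, s a b = 1} :=
          Nat.mul_le_mul_left _ h3
      _ = Nat.card {a : A // ∀ b, s a b = 1} * Nat.card B := h1.symm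
      _ ≤ Nat.card F * Nat.card B := Nat.mul_le_mul_right _ h2
  have e1 : Nat.card F * F.relIndex A = Nat.card A := by
    have := relIndex_mul_relIndex (⊥ : Subgroup G) F A bot_le hFA
    rwa [relIndex_bot_left, relIndex_bot_left] at this
  have e2 : Nat.card C * C.relIndex B = Nat.card B := by
    have := relIndex_mul_relIndex (⊥ : Subgroup G) C B bot_le hCB
    rwa [relIndex_bot_left, relIndex_bot_left] at this
  rw [← e1, ← e2] at h4
  have hp : 0 < Nat.card F * Nat.card C := Nat.mul_pos Nat.card_pos Nat.card_pos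
  refine Nat.le_of_mul_le_mul_left ?_ hp
  calc Nat.card F * Nat.card C * F.relIndex A = Nat.card F * F.relIndex A * Nat.card C := by ring
    _ ≤ Nat.card F * (Nat.card C * C.relIndex B) := h4
    _ = Nat.card F * Nat.card C * C.relIndex B := by ring

/-! ### the lines -/

section lines

variable {V F T X L Q0 V' F₁ : Subgroup G} (p : Pan V F T X L Q0) (hy : Flat.Hyp V' F₁)
include p hy

omit hy in
/-- `V₁ ∩ F₁ = F` for a line `V₁` moved by `W` -/
theorem inf_F₁ (hWQ : WW V' F₁ ≤ Q0) (hVF : V ≤ F₁) {x : G} (hx : x ∈ X)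
    (hm : ¬ WW V' F₁ ≤ normalizer ((cj x V : Subgroup G) : Set G)) : cj x V ⊓ F₁ = F := by
  apply le_antisymm
  · rintro v ⟨hv, hvF⟩
    obtain ⟨w, hw, hwn⟩ := SetLike.not_le_iff_exists.1 hm
    refine p.cent_le hx (p.Q0_X (hWQ hw)) hwn hv ?_
    exact mem_centralizer_iff.1 (Flat.Hyp.W_le_X hw) v hvF
  · exact le_inf (p.F_le_line hx) (p.F_le.trans hVF)

variable [Finite G]

/-- an unmoved line is centralised by `W` -/
theorem cent_unmoved
    (hoff : ∀ E0 : Subgroup G, F₁ ≤ E0 → E0 ≤ EE V' F₁ →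
      F₁.relIndex E0 ≤ (centralizer (E0 : Set G)).relIndex (WW V' F₁))
    (hWQ : WW V' F₁ ≤ Q0) (hUE : cl V X ≤ EE V' F₁) {x : G} (hx : x ∈ X)
    (hm : WW V' F₁ ≤ normalizer ((cj x V : Subgroup G) : Set G)) :
    WW V' F₁ ≤ centralizer ((cj x V : Subgroup G) : Set G) := by
  by_contra hcon
  have hE : cj x V ≤ EE V' F₁ := (cj_le_cl hx).trans hUE
  have h1 := hy.off_of_le hoff hE
  obtain ⟨h2, h3⟩ := hy.elem_W (hE.trans inf_le_left)
  have h4 := (p.nff.cj x) (WW V' F₁) (p.isPGroup_T.to_le (hWQ.trans p.Q0_le)) hm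
    (fun a ha => by rw [pow_two]; exact h3 a ha) (fun a ha b hb => h2 a ha b hb) hcon
  omega

/-- `N_W(V₁)` centralises a line `V₁` moved by `W` -/
theorem cent_moved (hWQ : WW V' F₁ ≤ Q0) (hVF : V ≤ F₁) (hUE : cl V X ≤ EE V' F₁) (ρ : Subgroup G)
    (key : ∀ r ∈ cl V X, r ∉ F₁ → ∀ d, d ∈ ρ ↔ ∃ s ∈ WW V' F₁, c r s = d) {x : G} (hx : x ∈ X)
    (hm : ¬ WW V' F₁ ≤ normalizer ((cj x V : Subgroup G) : Set G)) :
    WW V' F₁ ⊓ normalizer ((cj x V : Subgroup G) : Set G) ≤ centralizer ((cj x V : Subgroup G) : Set G) := by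
  by_contra hcon
  set V₁ := cj x V with hV₁
  set W₁ := WW V' F₁ ⊓ normalizer (V₁ : Set G) with hW₁
  have hVU : V₁ ≤ cl V X := cj_le_cl hx
  have hVE : V₁ ≤ EE V' F₁ := hVU.trans hUE
  have hVV : V₁ ≤ V' := hVE.trans inf_le_left
  have hinf : V₁ ⊓ F₁ = F := inf_F₁ p hWQ hVF hx hm
  have hFF : F ≤ F₁ := p.F_le.trans hVF
  have hF₁V : F ≤ V₁ := p.F_le_line hx
  -- `[V₁, W₁] ≤ F`
  have hcF : ∀ r ∈ V₁, ∀ s ∈ W₁, c r s ∈ F := by
    intro r hr s hs
    rw [← hinf]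
    refine ⟨?_, hy.comm_EW (hVE hr) hs.1⟩
    have h1 := (mem_normalizer_iff.1 hs.2 r⁻¹).1 (inv_mem hr)
    have e : c r s = r * (s * r⁻¹ * s⁻¹) := by rw [c_def]; group
    rw [e]
    exact V₁.mul_mem hr h1
  -- `[r, s] ∈ F ⟹ s ∈ W₁`
  have hW : ∀ r ∈ V₁, r ∉ F₁ → ∀ s ∈ WW V' F₁, c r s ∈ F → s ∈ W₁ := by
    intro r hr hrF s hs hcs
    refine ⟨hs, ?_⟩
    by_contra hn
    have hsX : s ∈ X := p.Q0_X (hWQ hs)
    have h1 : cj (s * x) V ≠ cj x V := by
      intro h0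
      rw [← cj_cj] at h0
      exact hn (mem_normalizer_iff_cj.2 h0)
    have h2 : s * r * s⁻¹ ∈ cj (s * x) V ⊓ cj x V := by
      refine ⟨?_, ?_⟩
      · change s * r * s⁻¹ ∈ cj (s * x) V
        rw [← cj_cj]
        exact mem_cj_self hr
      · have e : s * r * s⁻¹ = (c r s)⁻¹ * r := by rw [c_def]; group
        rw [e]
        exact V₁.mul_mem (inv_mem (hF₁V hcs)) hr
    rw [p.line' (mul_mem hsX hx) hx h1] at h2
    have h3 := p.cj_F (inv_mem hsX)
    have h4 : r ∈ F := by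
      rw [← h3, mem_cj, inv_inv]
      exact h2
    exact hrF (hFF h4)
  -- the group `ρ₀`
  have hk : ∀ r ∈ V₁, r ∉ F₁ → ∀ d ∈ ρ ⊓ F, ∃ s ∈ W₁, c r s = d := by
    intro r hr hrF d hd
    obtain ⟨s, hs, hsd⟩ := (key r (hVU hr) hrF d).1 hd.1
    exact ⟨s, hW r hr hrF s hs (by rw [hsd]; exact hd.2), hsd⟩
  have hk' : ∀ r ∈ V₁, ∀ s ∈ W₁, c r s ∈ ρ ⊓ F := by
    intro r hr s hs
    by_cases hrF : r ∈ F₁
    · rw [Flat.Hyp.c_F hrF hs.1]; exact one_mem _
    · exact ⟨(key r (hVU hr) hrF _).2 ⟨s, hs.1, rfl⟩, hcF r hr s hs⟩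
  have hne : ρ ⊓ F ≠ ⊥ := by
    intro h0
    apply hcon
    intro s hs
    rw [mem_centralizer_iff]
    intro r hr
    have h1 := hk' r hr s hs
    rw [h0, mem_bot, c_def, mul_inv_eq_one, mul_inv_eq_iff_eq_mul] at h1
    exact h1
  have h5 := card_le (A := V₁) (B := W₁) (F := F) (C := W₁ ⊓ centralizer (V₁ : Set G)) (R := ρ ⊓ F) hF₁V
    inf_le_left (fun r hr => p.sq r (p.F_le hr.2))
    (fun a ha => by
      have h1 := p.comm (p.F_le ha.2)
      exact centralizer_le (fun b hb => p.F_le hb.2) h1) hne hk'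
    (fun a ha a' ha' b hb => hy.c_mul_left (hVV ha) (hVV ha') hb.1)
    (fun a ha b hb b' hb' => by
      rw [hy.c_mul_right (hVV ha) hb.1 hb'.1, Flat.Hyp.c_F (hFF (hcF a ha b' hb')) hb.1, mul_one])
    (fun a ha haF => hk a ha fun h => haF (by rw [← hinf]; exact ⟨ha, h⟩))
    (fun a ha b hb => by
      rw [c_def, mem_centralizer_iff.1 hb.2 a ha, mul_inv_cancel_right, mul_inv_cancel])
  obtain ⟨h2, h3⟩ := hy.elem_W hVV
  have h4 := (p.nff.cj x) W₁ (p.isPGroup_T.to_le (inf_le_left.trans (hWQ.trans p.Q0_le))) inf_le_right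
    (fun a ha => by rw [pow_two]; exact h3 a ha.1) (fun a ha b hb => h2 a ha.1 b hb.1) hcon
  have h6 : (centralizer (W₁ : Set G)).relIndex V₁ ≤ F.relIndex V₁ := by
    refine relIndex_le_of_le_left ?_ index_ne_zero_of_finite
    refine cent_symm ?_
    exact (inf_le_left.trans Flat.Hyp.W_le_X).trans (centralizer_le hFF)
  rw [inf_relIndex_left] at h5
  have h7 : (centralizer (V₁ : Set G)).relIndex W₁ < (centralizer (W₁ : Set G)).relIndex V₁ := h4
  exact absurd (h7.trans_le (h6.trans h5)) (lt_irrefl _)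

/-- **(7)** -/
theorem end_aux (hX : NoOv X) (h2 : Two V X)
    (hoff : ∀ E0 : Subgroup G, F₁ ≤ E0 → E0 ≤ EE V' F₁ →
      F₁.relIndex E0 ≤ (centralizer (E0 : Set G)).relIndex (WW V' F₁))
    (hWQ : WW V' F₁ ≤ Q0) (hWX : ¬ WW V' F₁ ≤ o2 X) (hVF : V ≤ F₁) (hUE : cl V X ≤ EE V' F₁)
    (ρ : Subgroup G) (key : ∀ r ∈ cl V X, r ∉ F₁ → ∀ d, d ∈ ρ ↔ ∃ s ∈ WW V' F₁, c r s = d) : False := by
  set W := WW V' F₁ with hW
  have hWX' : W ≤ X := hWQ.trans p.Q0_X
  have hWP : IsPGroup 2 W := p.isPGroup_T.to_le (hWQ.trans p.Q0_le)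
  -- `W ∩ Q` centralises `U`
  have h1 : W ⊓ o2 X ≤ centralizer (cl V X : Set G) := by
    refine cent_symm (cl_le fun x hx => cent_symm ?_)
    by_cases hm : W ≤ normalizer ((cj x V : Subgroup G) : Set G)
    · exact inf_le_left.trans (cent_unmoved p hy hoff hWQ hUE hx hm)
    · refine le_trans (inf_le_inf_left _ ?_) (cent_moved p hy hWQ hVF hUE ρ key hx hm)
      exact p.o2_norm_line hx
  have h3 : (centralizer (cl V X : Set G)).relIndex W ≤ (o2 X).relIndex W := by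
    rw [← inf_relIndex_left W (o2 X)]
    exact relIndex_le_of_le_left h1 index_ne_zero_of_finite
  have h4 := hy.off_of_le hoff hUE
  -- `W ∩ C(U) ≤ Q`
  have h5 : W ⊓ centralizer (cl V X : Set G) ≤ o2 X :=
    p.le_o2_of_cent_U (hWP.to_le inf_le_left) (inf_le_left.trans hWX') inf_le_right
  obtain ⟨h6, h7⟩ := hy.elem_W (hUE.trans inf_le_left)
  obtain ⟨N, hN, hXN, hE, hE'⟩ := h2
  have h8 := hX.two hN p.U_le_X p.U_sq p.U_comm hXN (le_normalizer_cl V X) hE hE' hWX'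
    (fun a ha => by
      rw [pow_two]
      exact h5 ⟨mul_mem ha ha, h7 a ha⟩)
    (fun a ha b hb => h5 ⟨W.mul_mem (W.mul_mem (W.mul_mem ha hb) (W.inv_mem ha)) (W.inv_mem hb), h6 a ha b hb⟩)
  have h9 : (o2 X).relIndex W ≠ 0 := index_ne_zero_of_finite
  have h10 : (o2 X).relIndex W ≠ 1 := fun h0 => hWX (relIndex_eq_one.1 h0)
  have h11 : (o2 X).relIndex W * (o2 X).relIndex W ≤ (o2 X).relIndex W * 1 := by
    rw [mul_one]
    exact h8.trans (h4.trans h3)
  have h12 := Nat.le_of_mul_le_mul_left h11 (Nat.pos_of_ne_zero h9)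
  omega

end lines

/-- **(7)**: the end of THEOREM BETA2 -/
theorem end_ [Finite G] {V F T X L Q0 V' F₁ : Subgroup G} (p : Pan V F T X L Q0) (hX : NoOv X) (h2 : Two V X)
    (hy : Flat.Hyp V' F₁)
    (hoff : ∀ E0 : Subgroup G, F₁ ≤ E0 → E0 ≤ EE V' F₁ →
      F₁.relIndex E0 ≤ (centralizer (E0 : Set G)).relIndex (WW V' F₁))
    (hWQ : WW V' F₁ ≤ Q0) (hWX : ¬ WW V' F₁ ≤ o2 X) (hVF : V ≤ F₁) (hUE : cl V X ≤ EE V' F₁)
    (ρ : Subgroup G) (key : ∀ r ∈ cl V X, r ∉ F₁ → ∀ d, d ∈ ρ ↔ ∃ s ∈ WW V' F₁, c r s = d) : False :=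
  end_aux p hy hX h2 hoff hWQ hWX hVF hUE ρ key

end Cfsg.Agent.Omega.NO3b.BetaTwo

end

end

-- merged: Cfsg.Agent.Mrg.Omega.NO3b.BetaTwo.NoOver
section

section


/-!
# No over-offenders on `U = ⟨V^X⟩` (THEOREM BETA2, bb #20914, the field `hno` of `Bt`)

* `noover_gen` : in the situation `DatU` of THEOREM L, `U = ⟨V^X⟩` : `|E| |C_U(E)| ≤ |U|` for every elementary
  abelian 2-subgroup `E` of `X` (E minimal with `|E| |C_U(E)|` maximal: `E ≤ O₂(X)` centralises all lines; otherwise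
  TIGHT gives equality);
* `Sit.noover`, `noOver_of` : the same in `G`.
-/

set_option autoImplicit false

namespace Cfsg.Agent.Omega.NO3b.BetaTwo

open Subgroup Cfsg
open Cfsg.Agent.ZN (o2 zc zl)
open Cfsg.Agent.ZN.ChoiceBase (cj mem_cj cj_mono cj_eq_of_mem_normalizer mem_normalizer_iff_cj)
open Cfsg.Agent.Omega.FF.Basic (fx mm EA mm_bot)
open Cfsg.Agent.Omega.NO3b.EZero (cl cj_le_cl cl_le)
open Cfsg.Agent.Omega.NO3b.Exit.Bridge
open Cfsg.Agent.Omega.NO3b.Exit.TT (cf nf mem_cf mem_nf le_cf BO)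
open Cfsg.Agent.Omega.FFBr (im)
open Cfsg.Agent.Omega.NOThreeL.Star (ff)
open Cfsg.Agent.Omega.NO3b.TheoremL.Tight (DatU MBU tight)
open scoped Pointwise

section abstract_

variable {X : Type*} [Group X] {U : Type*} [AddCommGroup U] [DistribMulAction X U] {S : Sylow 2 X}
  {V F : AddSubgroup U}

/-- **no over-offenders** on `U = ⟨V^X⟩` -/
theorem noover_gen [Finite X] [Finite U] (h : DatU S V F)
    (hgen : ∀ K : AddSubgroup U, (∀ x : X, x • V ≤ K) → K = ⊤) {E : Subgroup X} (hE : EA E) :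
    mm U E ≤ Nat.card U := by
  classical
  by_contra hcon
  push Not at hcon
  obtain ⟨E₁, hE₁, hmax⟩ := Set.exists_max_image {E' : Subgroup X | E' ≤ E} (fun E' => mm U E') (Set.toFinite _) ⟨E, le_refl E⟩
  obtain ⟨E₂, ⟨hE₂, hE₂m⟩, hmin⟩ := Set.exists_min_image {E' : Subgroup X | E' ≤ E ∧ mm U E' = mm U E₁}
    (fun E' => Nat.card E') (Set.toFinite _) ⟨E₁, hE₁, rfl⟩
  have h1 : Nat.card U < mm U E₂ := by
    rw [hE₂m]; exact lt_of_lt_of_le hcon (hmax E (le_refl E))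
  have hbo : BO U E₂ := ⟨hE.mono hE₂, fun E' h' => by rw [hE₂m]; exact hmax E' (h'.trans hE₂)⟩
  by_cases hQ : E₂ ≤ pCore 2 X
  · have h2 : fx U E₂ = ⊤ := hgen _ fun x => le_cf.1 (h.bo_cent hbo (x := x) (hQ.trans (h.core_nf x)))
    have h3 : E₂ = ⊥ := by
      rw [Subgroup.eq_bot_iff_forall]
      intro e he
      apply h.faith
      intro u
      have hu : u ∈ fx U E₂ := by rw [h2]; trivial
      exact hu e he
    rw [h3, mm_bot] at h1
    exact lt_irrefl _ h1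
  · have m₂ : MBU U E₂ :=
      { ea := hE.mono hE₂
        nle := hQ
        off := h1.le
        min := fun E' h' h0 => by
          refine lt_of_le_of_ne (hbo.le E' h'.le) fun heq => ?_
          have h2 := hmin E' ⟨h'.le.trans hE₂, heq.trans hE₂m⟩
          exact h'.ne (Subgroup.eq_of_le_of_card_ge h'.le h2) }
    have h2 := (tight h m₂).mm_eq
    omega

end abstract_

universe u

variable {G : Type u} [Group G]

variable [Finite G] {V F T X : Subgroup G}

/-- **no over-offenders** on `⟨V^X⟩` -/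
theorem Sit.noover (s : Sit V F T X (cl V X)) {A : Subgroup G} (hA : A ≤ X)
    (hsq : ∀ a ∈ A, a ^ 2 ∈ centralizer (cl V X : Set G))
    (_hcomm : ∀ a ∈ A, ∀ b ∈ A, a * b * a⁻¹ * b⁻¹ ∈ centralizer (cl V X : Set G)) :
    (centralizer (cl V X : Set G)).relIndex A ≤ (centralizer (A : Set G)).relIndex (cl V X) := by
  have h : X ≤ normalizer (cl V X : Set G) := s.XU
  have hX : X ≤ X := le_rfl
  obtain ⟨P, hP⟩ := s.exists_syl h hX
  have hE : EA (imx h X A) := by
    intro y hy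
    obtain ⟨x, hx, rfl⟩ := exists_of_mem_imx h hX hA hy
    rw [← map_mul, phi_eq_one]
    have h1 := hsq _ hx
    rw [pow_two] at h1
    exact h1
  have hgen : ∀ K : AddSubgroup (MU s.cm), (∀ y : ↥(im h X), y • ad s.cm V ≤ K) → K = ⊤ := by
    intro K hK
    have h1 : cl V X ≤ un K := by
      refine cl_le fun x hx => ?_
      have h2 := hK (phi h hX ⟨x, hx⟩)
      have h3 : phi h hX ⟨x, hx⟩ • ad s.cm V = ad s.cm (cj x V) := sm_phi h hX ⟨x, hx⟩ V
      rw [h3] at h2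
      intro v hv
      exact ⟨Exit.Bridge.mk s.cm (cj_le_cl hx hv), h2 (mem_ad.2 hv), rfl⟩
    rw [eq_top_iff]
    intro w _
    exact val_mem_un.1 (h1 (val_mem w))
  have h1 := noover_gen (s.datU h hX hP) hgen hE
  rw [mm_imx h hA hX, card_MU, ff] at h1
  have h2 := NOThreeL.Star.rel_mul_card (cl V X) (centralizer (A : Set G))
  rw [← h2] at h1
  exact Nat.le_of_mul_le_mul_right h1 Nat.card_pos

/-- the field `hno` of `Bt` -/
theorem noOver_of (s : Sit V F T X (cl V X)) : NoOver V X := fun _ hA hsq hcomm => Sit.noover s hA hsq hcomm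

/-- the panel as a `Sit` on `⟨V^X⟩` -/
theorem sit_of_pan {L Q0 : Subgroup G} (p : K0.Mix.Pan V F T X L Q0)
    (hmin : ∀ M : Subgroup G, T ≤ M → M ≤ X → M ≠ X → M ≤ normalizer (V : Set G)) : Sit V F T X (cl V X) where
  cm := p.U_comm
  sq := p.U_sq
  VU := EZero.le_cl V X
  XU := EZero.le_normalizer_cl V X
  nff := p.nff
  FV := p.F_le
  XF := p.X_le
  syl := p.syl
  mp := p.mp
  TV := p.T_norm
  nle := p.nle
  min := hmin
  ti := fun x hx hn => (p.line x hx hn).le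

theorem noOver_of_pan {L Q0 : Subgroup G} (p : K0.Mix.Pan V F T X L Q0)
    (hmin : ∀ M : Subgroup G, T ≤ M → M ≤ X → M ≠ X → M ≤ normalizer (V : Set G)) : NoOver V X :=
  noOver_of (sit_of_pan p hmin)

end Cfsg.Agent.Omega.NO3b.BetaTwo

end

section


/-!
# THEOREM BETA2 (bb #20914): (β2) is impossible

* `Bt.false` : no `H = ⟨L, X⟩` with `⟨V^H⟩ ≤ V'`, `⟨V^H⟩ ≰ E`;
* `beta2` : at a member `L` of the chain every panel with `V_H` not FF has `V_H ≤ O₂(C_G(Z))`;
* `last_ff` : at the last member `V_H` is FF for every panel.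
-/

set_option autoImplicit false

namespace Cfsg.Agent.Omega.NO3b.BetaTwo

open Subgroup Cfsg
open Cfsg.Agent.ZN (o2 zc zl)
open Cfsg.Agent.ZN.ChoiceBase hiding mem_zc
open Cfsg.Agent.Omega.NO3b.EZero (NotFF Par cent_symm cj_cent cl le_cl cj_le_cl cl_le le_normalizer_cl)
open Cfsg.Agent.Omega.NO3b.Alpha (Fl)
open Cfsg.Agent.Omega.NO3b.Wc
open Cfsg.Agent.Omega.NO3b.Exit
open Cfsg.Agent.Omega.NO3b.Chain
open Cfsg.Agent.Omega.NO3b.K0.Mix (Pan SM Two)
open Cfsg.Agent.Omega.NOne.Flat (EE WW NN)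
open Cfsg.Agent.Omega.NOne.NearFF (c)

universe u

variable {G : Type u} [Group G] [Finite G]

/-- **THEOREM BETA2**, abstract form -/
theorem Bt.false {V F T X L Q0 V' F₁ : Subgroup G} (t : Bt V F T X L Q0 V' F₁) {H : Subgroup G}
    (hH : H ≤ L ⊔ X) (hLH : L ≤ H) (hXH : X ≤ H) (hE : ¬ cl V H ≤ EE V' F₁) (hV' : cl V H ≤ V') : False := by
  obtain ⟨h, hh, hB, hn⟩ := t.exists_gal hH hLH hXH hE
  have hU : cj h (cl V X) ≤ V' := by
    refine le_trans ?_ hV'
    unfold cl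
    rw [EZero.cj_iSup]
    refine iSup_le fun x => ?_
    rw [cj_cj]
    exact cj_le_cl (mul_mem hh (hXH x.2))
  have hc := t.count hB hU hn fun x hx h1 => t.line hB hU hx h1
  obtain ⟨ρ, hρ⟩ := t.key (fun w hw hwE r hr => t.exists_B hw hwE hr) t.relIndex_B t.B_nle hc
  exact end_ t.pan t.noov t.two t.hy t.hoff t.WQ t.WX t.V_le_F₁ t.U_le_E ρ
    fun r hr hrF => hρ r ⟨t.UV hr, Bt.U_le_B hr⟩ hrF

variable {S : Sylow 2 G} {L F T X : Subgroup G}

/-- **THEOREM BETA2** -/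
theorem beta2 (h : Stage S L) (hc : IsCharacteristicTwoType G) (hne : zc (S : Subgroup G) ≠ ⊥)
    (f : Fl S (VL (S : Subgroup G) L) F T) (hZ : zc (S : Subgroup G) ≤ F)
    (p : Par (VL (S : Subgroup G) L) F T X) (hn : NotFF (zl (S : Subgroup G) (nx (S : Subgroup G) L X))) :
    zl (S : Subgroup G) (nx (S : Subgroup G) L X) ≤ o2 (centralizer (zc (S : Subgroup G) : Set G)) := by
  by_contra hV
  have l := h.lines hc hne
  have pn := pan f l p fun g hg => Alpha.ti hc l g hg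
  have s := Bridge.Sit.of_fl hc l f p pn.U_comm pn.U_sq (le_cl _ _) (le_normalizer_cl _ _)
  obtain ⟨F₁, t, h1, h2⟩ := exists_bt h hc hne f hZ p (noOver_of s) hn hV
  have e : normalizer (((S : Subgroup G) ⊓ centralizer (VL (S : Subgroup G) L : Set G) : Subgroup G) : Set G) =
      ML (S : Subgroup G) L := by
    rw [h.toRoot.cs_V]
    rfl
  rw [e] at t
  exact t.false (le_refl (nx (S : Subgroup G) L X)) le_sup_left le_sup_right h1 h2

/-- At the last member of the chain `V_H` is FF for every panel. -/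
theorem last_ff (h : Stage S L) (hc : IsCharacteristicTwoType G) (hne : zc (S : Subgroup G) ≠ ⊥)
    (hl : ∀ F T X, ¬ Step S L F T X) (f : Fl S (VL (S : Subgroup G) L) F T) (hZ : zc (S : Subgroup G) ≤ F)
    (p : Par (VL (S : Subgroup G) L) F T X) : ¬ NotFF (zl (S : Subgroup G) (nx (S : Subgroup G) L X)) := by
  intro hn
  rcases last_or hc hne h hl f hZ p with h1 | h1
  · exact h1 hn
  · exact h1 (beta2 h hc hne f hZ p hn)

end Cfsg.Agent.Omega.NO3b.BetaTwo

end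

end
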