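import Cfsg.Agent.Mrg.Omega.NOThreeL.NF.Final
import Cfsg.Agent.Mrg.Omega.NO3b.Chain.Frame
import Cfsg.Agent.Mrg.Omega.NO3b.BetaTwo.NoOver
import Cfsg.Agent.Mrg.Omega.NO3b.Exit.Bridge
import Cfsg.Agent.Mrg.Omega.NO3b.Exit.TenSplit
import Cfsg.Agent.Mrg.Omega.NO3b.TheoremL.Core2
import Cfsg.Agent.Mrg.Omega.NO3b.Chain.Group

-- merged: Cfsg.Agent.Mrg.Omega.NO3b.BasePt.LocStage
section

/-!
# `LocG` as a member of the chain

`g : LocG S M B` (`HypGFrame.lean`: `B` admissible, `V = VB S B = ⟨Z^{N_G(B)}⟩` with `|V|` maximal), `L = N_G(B)`.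

* `LocG.stage` : `Stage S L`;
* `LocG.WH_eq`, `LocG.ML_eq`, `LocG.VL_eq` : `WH S L = B`, `ML S L = L`, `VL S L = VB S B`;
* `LocG.adm_of_root`, `LocG.le_of_root` : every root `L' ≥ M` with `V(L')` low has `|V(L')| ≤ |V|`;
* `LocG.no_step` : there is no step of the chain from `L`;
* `LocG.le_normalizer_of_stage` : `Stage S J`, `L ≤ J` imply `J ≤ N_G(V)`;
* `LocG.nonLoc` : `⟨L, C_G(Z)⟩` is nonlocal.
-/

set_option autoImplicit false

namespace Cfsg.Agent.Omega.NOThreeL.HypGFrame.LocG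

open Subgroup Cfsg
open Cfsg.Agent.ZN hiding mem_zc le_normalizer_zl le_normalizer_o2 le_o2
open Cfsg.Agent.ZN.ChoiceBase hiding mem_zc
open Cfsg.Agent.Omega.MinPar Cfsg.Agent.Omega.Frame Cfsg.Agent.Omega.FrameNOFF
open Cfsg.Agent.Omega.NO3b.EZero (NotFF Par cl)
open Cfsg.Agent.Omega.NO3b.Alpha (Fl)
open Cfsg.Agent.Omega.NO3b.Wc
open Cfsg.Agent.Omega.NO3b.Exit (Adm Fr VB)
open Cfsg.Agent.Omega.NO3b.Chain (Stage Step nx)
open Cfsg.Agent.Omega.NOThreeL.HypGFrame (LocG)
open Cfsg.Agent.Omega.NOThreeL.MergeNF (NFRoot)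
open Cfsg.Agent.MinSimple.VModule (le_normalizer_zl le_normalizer_o2 o2_isPGroup le_o2 zl_le zc_le_zl)

universe u

variable {G : Type u} [Group G] [Finite G] {S : Sylow 2 G} {M B : Subgroup G}

/-- **`LocG` is a member of the chain.** -/
theorem stage (g : LocG S M B) : Stage S (normalizer (B : Set G)) where
  le := NO3b.Exit.wc_S_le g.adm.wc
  comm := g.adm.comm
  sq := g.adm.sq
  nff := g.adm.nff
  cs := by
    have h := g.adm.cs
    rw [VB] at h
    rw [h]
  low := g.adm.low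

theorem QL_eq (g : LocG S M B) : QL (S : Subgroup G) (normalizer (B : Set G)) = B := g.adm.cs

/-- `WH S L = B` -/
theorem WH_eq (g : LocG S M B) : WH (S : Subgroup G) (normalizer (B : Set G)) = B :=
  le_antisymm ((WH_le _ _).trans g.QL_eq.le) (le_WH g.adm.wc g.QL_eq.ge)

/-- `ML S L = L` -/
theorem ML_eq (g : LocG S M B) : ML (S : Subgroup G) (normalizer (B : Set G)) = normalizer (B : Set G) := by
  rw [ML, g.WH_eq]

/-- `VL S L = V` -/
theorem VL_eq (g : LocG S M B) : VL (S : Subgroup G) (normalizer (B : Set G)) = VB (S : Subgroup G) B := by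
  rw [VL, g.ML_eq, VB]

/-- A root `L' ≥ M` with `V(L')` low is admissible. -/
theorem adm_of_root {L : Subgroup G} (h : Root S L) (hML : M ≤ L)
    (low : VL (S : Subgroup G) L ≤ o2 (centralizer (zc (S : Subgroup G) : Set G))) :
    Adm S M (WH (S : Subgroup G) L) where
  wc := wc_WH _ _
  le := (WH_le _ _).trans (inf_le_inf_left _ (centralizer_le (NOThreeL.Star.zl_mono _ hML)))
  cs := h.cs_V
  comm := h.V_comm
  sq := h.V_sq
  nff := h.V_nff
  low := low

/-- **Maximality of `|V|`.** -/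
theorem le_of_root (g : LocG S M B) {L : Subgroup G} (h : Root S L) (hML : M ≤ L)
    (low : VL (S : Subgroup G) L ≤ o2 (centralizer (zc (S : Subgroup G) : Set G))) :
    Nat.card (VL (S : Subgroup G) L) ≤ Nat.card (VB (S : Subgroup G) B) :=
  g.max _ (adm_of_root h hML low)

/-- Maximality of `V`. -/
theorem VL_eq_of_root (g : LocG S M B) {L : Subgroup G} (h : Root S L) (hML : M ≤ L)
    (low : VL (S : Subgroup G) L ≤ o2 (centralizer (zc (S : Subgroup G) : Set G)))
    (hV : VB (S : Subgroup G) B ≤ VL (S : Subgroup G) L) : VL (S : Subgroup G) L = VB (S : Subgroup G) B :=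
  (eq_of_le_of_card_ge hV (g.le_of_root h hML low)).symm

theorem lines (g : LocG S M B) (hG : IsCharacteristicTwoType G) (hne : zc (S : Subgroup G) ≠ ⊥) :
    NO3b.NoEmp.Lines S (WH (S : Subgroup G) (normalizer (B : Set G))) (VL (S : Subgroup G) (normalizer (B : Set G))) :=
  g.stage.lines hG hne

/-- **There is no step from `L`.** -/
theorem no_step (g : LocG S M B) (hG : IsCharacteristicTwoType G) (hne : zc (S : Subgroup G) ≠ ⊥)
    (F T X : Subgroup G) : ¬ Step S (normalizer (B : Set G)) F T X := by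
  intro s
  have h1 : Stage S (nx (S : Subgroup G) (normalizer (B : Set G)) X) := s.next hG g.stage.toRoot (g.lines hG hne)
  have h2 := s.lt h1.toRoot
  have h3 : M ≤ nx (S : Subgroup G) (normalizer (B : Set G)) X := by
    refine le_trans ?_ le_sup_left
    rw [g.ML_eq]
    exact g.le
  have h4 := g.le_of_root h1.toRoot h3 (h1.lines hG hne).low
  rw [g.VL_eq] at h2
  exact h2.ne (eq_of_le_of_card_ge h2.le h4)

/-- `⟨L, C_G(Z)⟩` is nonlocal. -/
theorem nonLoc (g : LocG S M B) (r : NFRoot (S : Subgroup G) M) :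
    NonLoc (normalizer (B : Set G)) (CZ (S : Subgroup G)) :=
  fun U hU h1 h2 => r.nonloc U hU (g.le.trans h1) h2

/-- **Maximality for a local group `J ≥ L`** with `C_S(V_J)` normal in `J`: if `V_J` is not FF and
`V_J ≤ O₂(C_G(Z))` then `J ≤ N_G(V)`. -/
theorem le_normalizer_of_stage (g : LocG S M B) (hG : IsCharacteristicTwoType G) (hne : zc (S : Subgroup G) ≠ ⊥)
    {J : Subgroup G} (hJ : Stage S J) (hLJ : normalizer (B : Set G) ≤ J) :
    J ≤ normalizer (VB (S : Subgroup G) B : Set G) := by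
  have hV : VB (S : Subgroup G) B ≤ VL (S : Subgroup G) J :=
    (NOThreeL.Star.zl_mono (S : Subgroup G) hLJ).trans hJ.zl_le_V
  have h1 := g.VL_eq_of_root hJ.toRoot (g.le.trans hLJ) (hJ.lines hG hne).low hV
  rw [← h1]
  exact hJ.L_le.trans (ML_le_norm_V _ _)

end Cfsg.Agent.Omega.NOThreeL.HypGFrame.LocG

end

-- merged: Cfsg.Agent.Mrg.Omega.NO3b.BetaTwo.FamPlug
section

section


/-!
# THEOREM BETA2 for a family of panels (helper506, bb #21336 (A)): the frame at a member of the chain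

`Stage S L`, `(F i, T i, X i)` panels of `V = VL S L` over `Z`, `J = ⟨ML S L, X i⟩` 2-local (`JJ`), `V_J = zl S J` not FF
and not in `O₂(C_G(Z))`: `exists_btF`.
-/

set_option autoImplicit false

namespace Cfsg.Agent.Omega.NO3b.BetaTwo

open Subgroup Cfsg
open Cfsg.Agent.ZN (o2 zc zl)
open Cfsg.Agent.ZN.ChoiceBase hiding mem_zc
open Cfsg.Agent.ZN.ChoiceSit (o2_le_syl)
open Cfsg.Agent.Omega.NO3b.EZero (NotFF Par cent_symm cj_cent cl le_cl cj_le_cl cl_le le_normalizer_cl)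
open Cfsg.Agent.Omega.NO3b.Alpha (Fl)
open Cfsg.Agent.Omega.NO3b.Wc
open Cfsg.Agent.Omega.NO3b.Exit
open Cfsg.Agent.Omega.NO3b.Chain
open Cfsg.Agent.Omega.NO3b.K0.Mix (Pan SM Two)
open Cfsg.Agent.Omega.NOne.Flat (EE WW NN)
open Cfsg.Agent.Omega.NOne.NearFF (c)
open Cfsg.Agent.MinSimple.VModule (zc_le_zl le_normalizer_zl zl_le le_normalizer_o2 le_o2 mem_normalizer_of_map_le)

universe u v

variable {G : Type u} [Group G]

/-- `J = ⟨M(L), X i⟩` -/
def JJ {ι : Type v} (S L : Subgroup G) (X : ι → Subgroup G) : Subgroup G := ML S L ⊔ ⨆ i, X i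

variable [Finite G] {S : Sylow 2 G} {L : Subgroup G} {ι : Type v} {F T X : ι → Subgroup G}

section

variable (h : Stage S L) (hc : IsCharacteristicTwoType G) (hne : zc (S : Subgroup G) ≠ ⊥)
  (f : ∀ i, Fl S (VL (S : Subgroup G) L) (F i) (T i))
  (p : ∀ i, Par (VL (S : Subgroup G) L) (F i) (T i) (X i)) (h2 : ∀ i, Two (VL (S : Subgroup G) L) (X i))
  (hloc : ∃ R : Subgroup G, R ≠ ⊥ ∧ IsPGroup 2 R ∧ JJ (S : Subgroup G) L X ≤ normalizer (R : Set G))
include h hc hne f p h2 hloc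

theorem exists_btF (hn : NotFF (zl (S : Subgroup G) (JJ (S : Subgroup G) L X)))
    (hV : ¬ zl (S : Subgroup G) (JJ (S : Subgroup G) L X) ≤ o2 (centralizer (zc (S : Subgroup G) : Set G))) :
    ∃ F₁ : Subgroup G, BtF (VL (S : Subgroup G) L) F T X
      (normalizer (((S : Subgroup G) ⊓ centralizer (VL (S : Subgroup G) L : Set G) : Subgroup G) : Set G))
      ((S : Subgroup G) ⊓ centralizer (VL (S : Subgroup G) L : Set G))
      (VL (S : Subgroup G) (LH (S : Subgroup G) (JJ (S : Subgroup G) L X))) F₁ ∧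
      ¬ cl (VL (S : Subgroup G) L) (JJ (S : Subgroup G) L X) ≤
        EE (VL (S : Subgroup G) (LH (S : Subgroup G) (JJ (S : Subgroup G) L X))) F₁ ∧
      cl (VL (S : Subgroup G) L) (JJ (S : Subgroup G) L X) ≤
        VL (S : Subgroup G) (LH (S : Subgroup G) (JJ (S : Subgroup G) L X)) := by
  set V := VL (S : Subgroup G) L with hVd
  set J := JJ (S : Subgroup G) L X with hJ
  set V' := VL (S : Subgroup G) (LH (S : Subgroup G) J) with hV'
  set B := WH (S : Subgroup G) L with hBd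
  have a := h.adm hc hne
  have l := h.lines hc hne
  have hOff := Final.stmtOff G
  obtain ⟨R, hR, hR2, hJR⟩ := hloc
  have hMJ : ML (S : Subgroup G) L ≤ J := le_sup_left
  have hXJ : ∀ i, X i ≤ J := fun i => (le_iSup X i).trans le_sup_right
  have hSJ : (S : Subgroup G) ≤ J := h.S_le.trans hMJ
  have char2 : J ⊓ centralizer (o2 J : Set G) ≤ o2 J := char2_of_loc hc hSJ hR2 hR hJR
  have pn : ∀ i, Pan V (F i) (T i) (X i)
      (normalizer (((S : Subgroup G) ⊓ centralizer (V : Set G) : Subgroup G) : Set G))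
      ((S : Subgroup G) ⊓ centralizer (V : Set G)) := fun i =>
    pan (f i) l (p i) fun g hg => Alpha.ti hc l g hg
  have hBT : ∀ i, B ≤ T i := fun i => by
    have hQ := (f i).Q0_le
    rwa [h.toRoot.cs_V] at hQ
  have root : Root S (LH (S : Subgroup G) J) := root_LH hSJ char2 hn
  have hle : zl (S : Subgroup G) J ≤ V' := by
    have h1 := root.zl_le_V
    rwa [zl_LH hSJ] at h1
  have hVJ : V ≤ zl (S : Subgroup G) J := NOThreeL.Star.zl_mono _ hMJ
  have hVH : cl V J ≤ zl (S : Subgroup G) J := by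
    refine cl_le fun x hx => ?_
    have h1 := cj_mono x hVJ
    rwa [cj_eq_of_mem_normalizer (le_normalizer_zl _ _ hx)] at h1
  have hHV : zl (S : Subgroup G) J ≤ cl V J :=
    zl_le (l.ZV.trans (le_cl _ _)) (le_normalizer_cl V J)
  have hUH : ∀ i, cl V (X i) ≤ zl (S : Subgroup G) J := fun i => cl_le fun x hx =>
    (cj_le_cl (V := V) (hXJ i hx)).trans hVH
  -- `W_F ≤ S` implies `W_F ≤ B`
  have hWB : ∀ F, MaxBad V' F → WW V' F ≤ (S : Subgroup G) → WW V' F ≤ B := by
    intro F hF hFS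
    refine le_trans (le_inf hFS ?_) a.cs.le
    by_contra hne
    have hoff := off_of hc hOff root hF hFS (hVJ.trans hle) a.low hne
    have h3 := a.nff _ (WW_pgroup _ _) (hFS.trans a.lines.S_le) hoff.sq hoff.comm hne
    exact absurd (FFThm.relIndex_le_iff.1 hoff.le) (not_le.2 h3)
  have hWHle : WH (S : Subgroup G) (LH (S : Subgroup G) J) ≤
      (S : Subgroup G) ⊓ centralizer (zl (S : Subgroup G) J : Set G) := by
    have h1 := WH_le (S : Subgroup G) (LH (S : Subgroup G) J)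
    unfold QL at h1
    rwa [zl_LH hSJ] at h1
  have hWHB : WH (S : Subgroup G) (LH (S : Subgroup G) J) ≤ B :=
    (hWHle.trans (inf_le_inf_left _ (centralizer_le hVJ))).trans a.cs.le
  obtain ⟨F0, hF0, hS0, hne0⟩ := exists_WW hc (S_ne hne) root (fun h0 => hV (hle.trans h0))
  rw [zl_LH hSJ] at hne0
  set Fam : Set (Subgroup G) := {D | D = WH (S : Subgroup G) (LH (S : Subgroup G) J) ∨
      ∃ F, MaxBad V' F ∧ WW V' F = D ∧ WW V' F ≤ (S : Subgroup G)} with hFam
  have hFamB : ∀ D ∈ Fam, D ≤ B := by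
    rintro D (rfl | ⟨F, hF, rfl, hFS⟩)
    · exact hWHB
    · exact hWB F hF hFS
  have hcl : ∀ g ∈ J, (∀ D ∈ Fam, cj g D ≤ (S : Subgroup G)) → ∀ D ∈ Fam, cj g D ≤ sSup Fam := by
    intro g hg hgS
    have hgM : g ∈ ML (S : Subgroup G) (LH (S : Subgroup G) J) := mem_ML_of_le (hgS _ (Or.inl rfl))
    rintro D (rfl | ⟨F, hF, rfl, hFS⟩)
    · rw [cj_eq_of_mem_normalizer hgM]
      exact le_sSup (Or.inl rfl)
    · have h1 := WW_cj (F := F) (ML_le_norm_V _ _ hgM)
      have h3 := hgS _ (Or.inr ⟨F, hF, rfl, hFS⟩)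
      rw [← h1] at h3 ⊢
      exact le_sSup (Or.inr ⟨cj g F, hF.cj (ML_le_norm_V _ _ hgM), rfl, h3⟩)
  have hex : ∃ i, ∃ D ∈ Fam, ¬ D ≤ o2 (X i) := by
    by_contra hcon
    push Not at hcon
    have hKB : sSup Fam ≤ B := sSup_le hFamB
    have hKS : sSup Fam ≤ (S : Subgroup G) := hKB.trans a.wc.le
    have hcl' : ∀ g ∈ J, cj g (sSup Fam) ≤ (S : Subgroup G) → cj g (sSup Fam) ≤ sSup Fam := by
      intro g hg hgS
      rw [cj_sSup]
      exact iSup_le fun D => hcl g hg (fun D hD => (cj_mono g (le_sSup hD)).trans hgS) D D.2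
    have hcore : sSup Fam ≤ o2 J := by
      refine le_o2 (hKS.trans hSJ) (S.isPGroup'.to_le hKS) (sup_le ?_ (iSup_le fun i => ?_))
      · intro m hm
        refine mem_normalizer_of_map_le (hcl' m (hMJ hm) ?_)
        have h1 := cj_mono m hKB
        rw [cj_eq_of_mem_normalizer (show m ∈ normalizer (B : Set G) from hm)] at h1
        exact h1.trans a.wc.le
      · intro x hx
        refine mem_normalizer_of_map_le (hcl' x (hXJ i hx) ?_)
        have h1 := cj_mono x (sSup_le (hcon i) : sSup Fam ≤ o2 (X i))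
        rw [cj_eq_of_mem_normalizer (le_normalizer_o2 _ hx)] at h1
        exact h1.trans ((o2_le_syl ((f i).sylX (p i))).trans (f i).T_le)
    exact hne0 (((le_sSup (a := WW V' F0) (Or.inr ⟨F0, hF0, rfl, hS0⟩)).trans hcore).trans (o2_cent hSJ char2))
  obtain ⟨i, D, hD, hDX⟩ := hex
  have hcen : ∀ D, D ≤ B → D ≤ centralizer (zl (S : Subgroup G) J : Set G) → D ≤ o2 (X i) := fun D hDB hDc =>
    (pn i).le_o2_of_cent_U (S.isPGroup'.to_le (hDB.trans a.wc.le)) ((hDB.trans (hBT i)).trans (p i).T_le)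
      (hDc.trans (centralizer_le (hUH i)))
  rcases hD with rfl | ⟨F₁, hF₁, rfl, hFS⟩
  · exact absurd (hcen _ hWHB (hWHle.trans inf_le_right)) hDX
  have hWB₁ := hWB F₁ hF₁ hFS
  have hy : NOne.Flat.Hyp V' F₁ := hyp_of hc root hF₁
  refine ⟨F₁, ?_, fun h0 => ?_, hVH.trans hle⟩
  · exact
      { pan := pn
        noov := fun i => K0.noOv FFBr.aStmt ((f i).sylX (p i)) ((f i).isMinPar l (p i))
        sm := fun i => sm l hc (pn i)
        two := h2
        hno := fun i => noOver_of (Bridge.Sit.of_fl hc l (f i) (p i) (pn i).U_comm (pn i).U_sq (le_cl _ _)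
          (le_normalizer_cl _ _))
        hy := hy
        hoff := hOff _ _ hy
        good := good_cj h hc
        WQ := by
          rw [h.toRoot.cs_V]
          exact hWB₁
        WX := ⟨i, hDX⟩
        UV := fun i => (hUH i).trans hle }
  · -- `W` centralises `V_J`
    have h1 : zl (S : Subgroup G) J ≤ EE V' F₁ := hHV.trans h0
    have h3 := hy.off_of_le (hOff _ _ hy) h1
    have hW2 : IsPGroup 2 (WW V' F₁) := WW_pgroup _ _
    have hWH : WW V' F₁ ≤ normalizer (zl (S : Subgroup G) J : Set G) :=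
      ((hWB₁.trans a.wc.le).trans hSJ).trans (le_normalizer_zl _ _)
    obtain ⟨e1, e2⟩ := hy.elem_W hle
    by_cases hcen' : WW V' F₁ ≤ centralizer (zl (S : Subgroup G) J : Set G)
    · exact hDX (hcen _ hWB₁ hcen')
    · have h4 := hn (WW V' F₁) hW2 hWH (fun s hs => by rw [pow_two]; exact e2 s hs)
        (fun s hs t ht => e1 s hs t ht) hcen'
      exact absurd h3 (not_le.2 h4)

end

end Cfsg.Agent.Omega.NO3b.BetaTwo

end

section


/-!
# THEOREM BETA2 for a family of panels (helper506, bb #21336 (A)): the frame for an admissible `B`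

`Adm S L B`, `V = VB S B`, `(F i, T i, X i)` panels of `V` with two noncentral factors, `J = JB B X = ⟨N_G(B), X i⟩`
2-local, `V_J = zl S J` not FF, `V'_J = VL S (LH S J)`:

* `good_adm` : `V ≤ O₂(C_G(D))` for `1 ≠ D ≤ V` (from TI);
* `exists_btF_adm` : `V'_J ≰ O₂(C_G(Z))` gives the frame `BtF`;
* `closed_adm` : `V'_J ≤ O₂(C_G(Z))` gives an admissible `B' < B`.
-/

set_option autoImplicit false
set_option linter.unusedSectionVars false

namespace Cfsg.Agent.Omega.NO3b.BetaTwo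

open Subgroup Cfsg
open Cfsg.Agent.ZN (o2 zc zl)
open Cfsg.Agent.ZN.ChoiceBase hiding mem_zc
open Cfsg.Agent.ZN.ChoiceSit (o2_le_syl)
open Cfsg.Agent.Omega.NO3b.EZero (NotFF Par cent_symm cj_cent cl le_cl cj_le_cl cl_le le_normalizer_cl)
open Cfsg.Agent.Omega.NO3b.Alpha (Fl)
open Cfsg.Agent.Omega.NO3b.Wc
open Cfsg.Agent.Omega.NO3b.Exit
open Cfsg.Agent.Omega.NO3b.Chain
open Cfsg.Agent.Omega.NO3b.K0.Mix (Pan SM Two)
open Cfsg.Agent.Omega.NOne.Flat (EE WW NN)
open Cfsg.Agent.Omega.NOne.NearFF (c)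
open Cfsg.Agent.MinSimple.VModule (zc_le_zl le_normalizer_zl zl_le le_normalizer_o2 le_o2 mem_normalizer_of_map_le)

universe u v

variable {G : Type u} [Group G]

/-- `J = ⟨N_G(B), X i⟩` -/
def JB {ι : Type v} (B : Subgroup G) (X : ι → Subgroup G) : Subgroup G := normalizer (B : Set G) ⊔ ⨆ i, X i

variable [Finite G] {S : Sylow 2 G} {L B : Subgroup G} {ι : Type v} {F T X : ι → Subgroup G}

/-- `V ≤ O₂(C_G(D))` for `1 ≠ D ≤ V` -/
theorem good_adm (a : Adm S L B) (hc : IsCharacteristicTwoType G) {D : Subgroup G}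
    (hD : D ≤ VB (S : Subgroup G) B) (hD1 : D ≠ ⊥) : VB (S : Subgroup G) B ≤ o2 (centralizer (D : Set G)) := by
  set V := VB (S : Subgroup G) B with hV
  have l := a.lines
  have hVD : ∀ y ∈ centralizer (D : Set G), D ≤ cj y V := by
    intro y hy d hd
    have h1 := mem_centralizer_iff.1 hy d hd
    rw [mem_cj, mul_assoc, h1, inv_mul_cancel_left]
    exact hD hd
  have hcm : ∀ y ∈ centralizer (D : Set G), ∀ z ∈ centralizer (D : Set G),
      cj y V ≤ centralizer ((cj z V : Subgroup G) : Set G) := by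
    intro y hy z hz
    have h1 := Alpha.ti hc l (y⁻¹ * z) (by
      intro h0
      apply hD1
      rw [← le_bot_iff, ← h0]
      exact le_inf hD (hVD _ (mul_mem (inv_mem hy) hz)))
    have h2 := cj_cent (g := y) h1
    rwa [cj_cj, mul_inv_cancel_left] at h2
  have hUc : cl V (centralizer (D : Set G)) ≤ centralizer (cl V (centralizer (D : Set G)) : Set G) :=
    cl_le fun _ hy => cent_symm (cl_le fun _ hz => hcm _ hz _ hy)
  have hsq : ∀ u ∈ cl V (centralizer (D : Set G)), u ^ 2 = 1 := by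
    refine EZero.sq_of_comm hUc (fun i : centralizer (D : Set G) => cj_le_cl i.2) le_rfl fun i v hv => ?_
    have h1 := l.sq _ (mem_cj.1 hv)
    have e : v ^ 2 = i * ((i : G)⁻¹ * v * i) ^ 2 * (i : G)⁻¹ := by rw [pow_two, pow_two]; group
    rw [e, h1]; group
  have hle : cl V (centralizer (D : Set G)) ≤ centralizer (D : Set G) := by
    refine cl_le fun y hy => ?_
    have h1 : V ≤ centralizer (D : Set G) := l.comm.trans (centralizer_le hD)
    have h2 := cj_mono y h1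
    rwa [K0.cj_self hy] at h2
  exact (le_cl V _).trans (le_o2 hle (NoEmp.pgroup_of_sq hsq) (le_normalizer_cl _ _))

theorem good_adm_cj (a : Adm S L B) (hc : IsCharacteristicTwoType G) (g : G) (D : Subgroup G)
    (hD : D ≤ cj g (VB (S : Subgroup G) B)) (hD1 : D ≠ ⊥) :
    cj g (VB (S : Subgroup G) B) ≤ o2 (centralizer (D : Set G)) := by
  have h1 := good_adm a hc (D := cj g⁻¹ D) (by
    have h1 := cj_mono g⁻¹ hD
    rwa [cj_inv_cj] at h1) (fun h0 => hD1 (by
    have h1 := congrArg (cj g) h0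
    rwa [cj_cj_inv, K0.cj_bot'] at h1))
  have h2 := cj_mono g h1
  rwa [← Cfsg.Agent.ZN.ChoiceBase.pCore_cj, cj_centralizer, cj_cj_inv] at h2

section

variable (a : Adm S L B) (hc : IsCharacteristicTwoType G)
  (f : ∀ i, Fl S (VB (S : Subgroup G) B) (F i) (T i))
  (p : ∀ i, Par (VB (S : Subgroup G) B) (F i) (T i) (X i))
  (hloc : ∃ R : Subgroup G, R ≠ ⊥ ∧ IsPGroup 2 R ∧ JB B X ≤ normalizer (R : Set G))
include a hc hloc

omit [Finite G] a hc hloc in
theorem NB_le_JB [Finite G] : normalizer (B : Set G) ≤ JB B X := le_sup_left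

omit [Finite G] a hc hloc in
theorem X_le_JB [Finite G] (i : ι) : X i ≤ JB B X := (le_iSup X i).trans le_sup_right

omit hc hloc in
theorem S_le_JB : (S : Subgroup G) ≤ JB B X := (wc_S_le a.wc).trans NB_le_JB

theorem char2_JB : JB B X ⊓ centralizer (o2 (JB B X) : Set G) ≤ o2 (JB B X) := by
  obtain ⟨R, hR, hR2, hJR⟩ := hloc
  exact char2_of_loc hc (S_le_JB a) hR2 hR hJR

omit hc hloc in
theorem V_le_JB : VB (S : Subgroup G) B ≤ zl (S : Subgroup G) (JB B X) := NOThreeL.Star.zl_mono _ NB_le_JB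

omit hc hloc in
theorem cl_le_JB : cl (VB (S : Subgroup G) B) (JB B X) ≤ zl (S : Subgroup G) (JB B X) := by
  refine cl_le fun x hx => ?_
  have h1 := cj_mono x (V_le_JB a (X := X))
  rwa [cj_eq_of_mem_normalizer (le_normalizer_zl _ _ hx)] at h1

theorem zl_le_V'_JB (hn : NotFF (zl (S : Subgroup G) (JB B X))) :
    zl (S : Subgroup G) (JB B X) ≤ VL (S : Subgroup G) (LH (S : Subgroup G) (JB B X)) := by
  have h1 := (root_LH (S_le_JB a) (char2_JB a hc hloc) hn).zl_le_V
  rwa [zl_LH (S_le_JB a)] at h1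

omit hc hloc in
theorem WH_le_JB : WH (S : Subgroup G) (LH (S : Subgroup G) (JB B X)) ≤
    (S : Subgroup G) ⊓ centralizer (zl (S : Subgroup G) (JB B X) : Set G) := by
  have h1 := WH_le (S : Subgroup G) (LH (S : Subgroup G) (JB B X))
  unfold QL at h1
  rwa [zl_LH (S_le_JB a)] at h1

omit hc hloc in
theorem WH_le_B_JB : WH (S : Subgroup G) (LH (S : Subgroup G) (JB B X)) ≤ B :=
  ((WH_le_JB a).trans (inf_le_inf_left _ (centralizer_le (V_le_JB a)))).trans a.cs.le

include f p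

/-- `V'_J ≤ O₂(C_G(Z))`: a smaller admissible subgroup. -/
theorem closed_adm [hι : Nonempty ι] (hn : NotFF (zl (S : Subgroup G) (JB B X)))
    (hV : VL (S : Subgroup G) (LH (S : Subgroup G) (JB B X)) ≤ o2 (centralizer (zc (S : Subgroup G) : Set G))) :
    Adm S L (WH (S : Subgroup G) (LH (S : Subgroup G) (JB B X))) ∧
      WH (S : Subgroup G) (LH (S : Subgroup G) (JB B X)) ≤ B ∧
      WH (S : Subgroup G) (LH (S : Subgroup G) (JB B X)) ≠ B := by
  have h := root_LH (S_le_JB a) (char2_JB a hc hloc) hn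
  have h1 := Adm.of_root h hV
  refine ⟨⟨h1.wc, (WH_le_B_JB a).trans a.le, h1.cs, h1.comm, h1.sq, h1.nff, h1.low⟩, WH_le_B_JB a, fun h0 => ?_⟩
  obtain ⟨i⟩ := hι
  apply (p i).nle
  have h2 : zl (S : Subgroup G) (JB B X) ≤ VB (S : Subgroup G) B := by
    have h3 := zl_le_V'_JB a hc hloc hn
    have h4 : VL (S : Subgroup G) (LH (S : Subgroup G) (JB B X)) =
        VB (S : Subgroup G) (WH (S : Subgroup G) (LH (S : Subgroup G) (JB B X))) := rfl
    rwa [h4, h0] at h3
  have h3 : zl (S : Subgroup G) (JB B X) = VB (S : Subgroup G) B := le_antisymm h2 (V_le_JB a)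
  have h4 := (X_le_JB (B := B) (X := X) i).trans (le_normalizer_zl (S : Subgroup G) (JB B X))
  rwa [h3] at h4

theorem exists_btF_adm (h2 : ∀ i, Two (VB (S : Subgroup G) B) (X i)) (hSne : (S : Subgroup G) ≠ ⊥)
    (hn : NotFF (zl (S : Subgroup G) (JB B X)))
    (hV : ¬ VL (S : Subgroup G) (LH (S : Subgroup G) (JB B X)) ≤
      o2 (centralizer (zc (S : Subgroup G) : Set G))) :
    ∃ F₁ : Subgroup G, BtF (VB (S : Subgroup G) B) F T X (normalizer (B : Set G)) B
      (VL (S : Subgroup G) (LH (S : Subgroup G) (JB B X))) F₁ ∧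
      ¬ cl (VB (S : Subgroup G) B) (JB B X) ≤
        EE (VL (S : Subgroup G) (LH (S : Subgroup G) (JB B X))) F₁ ∧
      cl (VB (S : Subgroup G) B) (JB B X) ≤ VL (S : Subgroup G) (LH (S : Subgroup G) (JB B X)) := by
  set V := VB (S : Subgroup G) B with hVd
  set J := JB B X with hJ
  set V' := VL (S : Subgroup G) (LH (S : Subgroup G) J) with hV'
  have l := a.lines
  have hOff := Final.stmtOff G
  have hMJ : normalizer (B : Set G) ≤ J := NB_le_JB
  have hXJ : ∀ i, X i ≤ J := X_le_JB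
  have hSJ : (S : Subgroup G) ≤ J := S_le_JB a
  have char2 : J ⊓ centralizer (o2 J : Set G) ≤ o2 J := char2_JB a hc hloc
  have pn : ∀ i, Pan V (F i) (T i) (X i) (normalizer (B : Set G)) B := fun i => by
    have h1 := pan (f i) l (p i) fun g hg => Alpha.ti hc l g hg
    rwa [a.cs] at h1
  have hBT : ∀ i, B ≤ T i := fun i => by
    have hQ := (f i).Q0_le
    rwa [a.cs] at hQ
  have root : Root S (LH (S : Subgroup G) J) := root_LH hSJ char2 hn
  have hle : zl (S : Subgroup G) J ≤ V' := zl_le_V'_JB a hc hloc hn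
  have hVJ : V ≤ zl (S : Subgroup G) J := V_le_JB a
  have hVH : cl V J ≤ zl (S : Subgroup G) J := cl_le_JB a
  have hHV : zl (S : Subgroup G) J ≤ cl V J :=
    zl_le (l.ZV.trans (le_cl _ _)) (le_normalizer_cl V J)
  have hUH : ∀ i, cl V (X i) ≤ zl (S : Subgroup G) J := fun i => cl_le fun x hx =>
    (cj_le_cl (V := V) (hXJ i hx)).trans hVH
  -- `W_F ≤ S` implies `W_F ≤ B`
  have hWB : ∀ F, MaxBad V' F → WW V' F ≤ (S : Subgroup G) → WW V' F ≤ B := by
    intro F hF hFS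
    refine le_trans (le_inf hFS ?_) a.cs.le
    by_contra hne
    have hoff := off_of hc hOff root hF hFS (hVJ.trans hle) a.low hne
    have h3 := a.nff _ (WW_pgroup _ _) (hFS.trans a.lines.S_le) hoff.sq hoff.comm hne
    exact absurd (FFThm.relIndex_le_iff.1 hoff.le) (not_le.2 h3)
  have hWHle := WH_le_JB a (X := X)
  have hWHB := WH_le_B_JB a (X := X)
  obtain ⟨F0, hF0, hS0, hne0⟩ := exists_WW hc hSne root hV
  rw [zl_LH hSJ] at hne0
  set Fam : Set (Subgroup G) := {D | D = WH (S : Subgroup G) (LH (S : Subgroup G) J) ∨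
      ∃ F, MaxBad V' F ∧ WW V' F = D ∧ WW V' F ≤ (S : Subgroup G)} with hFam
  have hFamB : ∀ D ∈ Fam, D ≤ B := by
    rintro D (rfl | ⟨F, hF, rfl, hFS⟩)
    · exact hWHB
    · exact hWB F hF hFS
  have hcl : ∀ g ∈ J, (∀ D ∈ Fam, cj g D ≤ (S : Subgroup G)) → ∀ D ∈ Fam, cj g D ≤ sSup Fam := by
    intro g hg hgS
    have hgM : g ∈ ML (S : Subgroup G) (LH (S : Subgroup G) J) := mem_ML_of_le (hgS _ (Or.inl rfl))
    rintro D (rfl | ⟨F, hF, rfl, hFS⟩)
    · rw [cj_eq_of_mem_normalizer hgM]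
      exact le_sSup (Or.inl rfl)
    · have h1 := WW_cj (F := F) (ML_le_norm_V _ _ hgM)
      have h3 := hgS _ (Or.inr ⟨F, hF, rfl, hFS⟩)
      rw [← h1] at h3 ⊢
      exact le_sSup (Or.inr ⟨cj g F, hF.cj (ML_le_norm_V _ _ hgM), rfl, h3⟩)
  have hex : ∃ i, ∃ D ∈ Fam, ¬ D ≤ o2 (X i) := by
    by_contra hcon
    push Not at hcon
    have hKB : sSup Fam ≤ B := sSup_le hFamB
    have hKS : sSup Fam ≤ (S : Subgroup G) := hKB.trans a.wc.le
    have hcl' : ∀ g ∈ J, cj g (sSup Fam) ≤ (S : Subgroup G) → cj g (sSup Fam) ≤ sSup Fam := by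
      intro g hg hgS
      rw [cj_sSup]
      exact iSup_le fun D => hcl g hg (fun D hD => (cj_mono g (le_sSup hD)).trans hgS) D D.2
    have hcore : sSup Fam ≤ o2 J := by
      refine le_o2 (hKS.trans hSJ) (S.isPGroup'.to_le hKS) (sup_le ?_ (iSup_le fun i => ?_))
      · intro m hm
        refine mem_normalizer_of_map_le (hcl' m (hMJ hm) ?_)
        have h1 := cj_mono m hKB
        rw [cj_eq_of_mem_normalizer hm] at h1
        exact h1.trans a.wc.le
      · intro x hx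
        refine mem_normalizer_of_map_le (hcl' x (hXJ i hx) ?_)
        have h1 := cj_mono x (sSup_le (hcon i) : sSup Fam ≤ o2 (X i))
        rw [cj_eq_of_mem_normalizer (le_normalizer_o2 _ hx)] at h1
        exact h1.trans ((o2_le_syl ((f i).sylX (p i))).trans (f i).T_le)
    exact hne0 (((le_sSup (a := WW V' F0) (Or.inr ⟨F0, hF0, rfl, hS0⟩)).trans hcore).trans (o2_cent hSJ char2))
  obtain ⟨i, D, hD, hDX⟩ := hex
  have hcen : ∀ D, D ≤ B → D ≤ centralizer (zl (S : Subgroup G) J : Set G) → D ≤ o2 (X i) := fun D hDB hDc =>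
    (pn i).le_o2_of_cent_U (S.isPGroup'.to_le (hDB.trans a.wc.le)) ((hDB.trans (hBT i)).trans (p i).T_le)
      (hDc.trans (centralizer_le (hUH i)))
  rcases hD with rfl | ⟨F₁, hF₁, rfl, hFS⟩
  · exact absurd (hcen _ hWHB (hWHle.trans inf_le_right)) hDX
  have hWB₁ := hWB F₁ hF₁ hFS
  have hy : NOne.Flat.Hyp V' F₁ := hyp_of hc root hF₁
  refine ⟨F₁, ?_, fun h0 => ?_, hVH.trans hle⟩
  · exact
      { pan := pn
        noov := fun i => K0.noOv FFBr.aStmt ((f i).sylX (p i)) ((f i).isMinPar l (p i))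
        sm := fun i => sm l hc (pn i)
        two := h2
        hno := fun i => noOver_of (Bridge.Sit.of_fl hc l (f i) (p i) (pn i).U_comm (pn i).U_sq (le_cl _ _)
          (le_normalizer_cl _ _))
        hy := hy
        hoff := hOff _ _ hy
        good := good_adm_cj a hc
        WQ := hWB₁
        WX := ⟨i, hDX⟩
        UV := fun i => (hUH i).trans hle }
  · -- `W` centralises `V_J`
    have h1 : zl (S : Subgroup G) J ≤ EE V' F₁ := hHV.trans h0
    have h3 := hy.off_of_le (hOff _ _ hy) h1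
    have hW2 : IsPGroup 2 (WW V' F₁) := WW_pgroup _ _
    have hWH : WW V' F₁ ≤ normalizer (zl (S : Subgroup G) J : Set G) :=
      ((hWB₁.trans a.wc.le).trans hSJ).trans (le_normalizer_zl _ _)
    obtain ⟨e1, e2⟩ := hy.elem_W hle
    by_cases hcen' : WW V' F₁ ≤ centralizer (zl (S : Subgroup G) J : Set G)
    · exact hDX (hcen _ hWB₁ hcen')
    · have h4 := hn (WW V' F₁) hW2 hWH (fun s hs => by rw [pow_two]; exact e2 s hs)
        (fun s hs t ht => e1 s hs t ht) hcen'
      exact absurd h3 (not_le.2 h4)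

end

end Cfsg.Agent.Omega.NO3b.BetaTwo

end

section


/-!
# THEOREM BETA2 for a family of panels (helper506, bb #21336 (A))

* `BtF.false` : the abstract form;
* `fam_stage` : at a member `L` of the chain, panels `(F i, T i, X i)` over `Z` with two noncentral factors,
  `J = ⟨ML S L, X i⟩` 2-local, `V_J` not FF: `V_J ≤ O₂(C_G(Z))`;
* `fam_adm` : for an admissible `B`: `V'_J ≤ O₂(C_G(Z))`;
* `ff_adm` : `B` minimal admissible: `V_J` is FF.
-/

set_option autoImplicit false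

namespace Cfsg.Agent.Omega.NO3b.BetaTwo

open Subgroup Cfsg
open Cfsg.Agent.ZN (o2 zc zl)
open Cfsg.Agent.ZN.ChoiceBase hiding mem_zc
open Cfsg.Agent.Omega.NO3b.EZero (NotFF Par cent_symm cj_cent cl le_cl cj_le_cl cl_le le_normalizer_cl)
open Cfsg.Agent.Omega.NO3b.Alpha (Fl)
open Cfsg.Agent.Omega.NO3b.Wc
open Cfsg.Agent.Omega.NO3b.Exit
open Cfsg.Agent.Omega.NO3b.Chain
open Cfsg.Agent.Omega.NO3b.K0.Mix (Pan SM Two)
open Cfsg.Agent.Omega.NOne.Flat (EE WW NN)
open Cfsg.Agent.Omega.NOne.NearFF (c)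

universe u v

variable {G : Type u} [Group G] [Finite G] {ι : Type v}

/-- **THEOREM BETA2 for a family**, abstract form -/
theorem BtF.false {V : Subgroup G} {F T X : ι → Subgroup G} {L Q0 V' F₁ : Subgroup G}
    (t : BtF V F T X L Q0 V' F₁) {H : Subgroup G} (hH : H ≤ (⨆ i, X i) ⊔ L) (hLH : L ≤ H) (hXH : ∀ i, X i ≤ H)
    (hE : ¬ cl V H ≤ EE V' F₁) (hV' : cl V H ≤ V') : False := by
  obtain ⟨h, hh, hB, i, hn⟩ := t.exists_gal hH hLH hXH hE
  have hU : cj h (cl V (X i)) ≤ V' := by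
    refine le_trans ?_ hV'
    unfold cl
    rw [EZero.cj_iSup]
    refine iSup_le fun x => ?_
    rw [cj_cj]
    exact cj_le_cl (mul_mem hh (hXH i x.2))
  have hc := t.count (i := i) hB hU hn fun x hx h1 => t.line hU hx h1
  have h0 : 0 < F₁.relIndex (V' ⊓ BF V X F₁) := Nat.pos_of_ne_zero index_ne_zero_of_finite
  rw [t.relIndex_B] at hc
  obtain ⟨ρ, hρ⟩ := Key.key t.hy t.B_le_W BtF.X'_norm_B
    (fun w hw hwE r hr => t.exists_B hw hwE hr) t.B_nle (by omega)
  obtain ⟨j, hj⟩ := t.WX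
  exact end_ (t.pan j) (t.noov j) (t.two j) t.hy t.hoff t.WQ hj t.V_le_F₁ (t.U_le_E j) ρ
    fun r hr hrF => hρ r ⟨t.UV j hr, BtF.U_le_B j hr⟩ hrF

variable {S : Sylow 2 G} {L B : Subgroup G} {F T X : ι → Subgroup G}

/-- **THEOREM BETA2 for a family**, at a member of the chain -/
theorem fam_stage (h : Stage S L) (hc : IsCharacteristicTwoType G) (hne : zc (S : Subgroup G) ≠ ⊥)
    (f : ∀ i, Fl S (VL (S : Subgroup G) L) (F i) (T i))
    (p : ∀ i, Par (VL (S : Subgroup G) L) (F i) (T i) (X i)) (h2 : ∀ i, Two (VL (S : Subgroup G) L) (X i))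
    (hloc : ∃ R : Subgroup G, R ≠ ⊥ ∧ IsPGroup 2 R ∧ JJ (S : Subgroup G) L X ≤ normalizer (R : Set G))
    (hn : NotFF (zl (S : Subgroup G) (JJ (S : Subgroup G) L X))) :
    zl (S : Subgroup G) (JJ (S : Subgroup G) L X) ≤ o2 (centralizer (zc (S : Subgroup G) : Set G)) := by
  by_contra hV
  obtain ⟨F₁, t, h1, h3⟩ := exists_btF h hc hne f p h2 hloc hn hV
  have e : normalizer (((S : Subgroup G) ⊓ centralizer (VL (S : Subgroup G) L : Set G) : Subgroup G) : Set G) =
      ML (S : Subgroup G) L := by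
    rw [h.toRoot.cs_V]
    rfl
  rw [e] at t
  refine t.false (H := JJ (S : Subgroup G) L X) (sup_le le_sup_right le_sup_left) le_sup_left
    (fun i => (le_iSup X i).trans le_sup_right) h1 h3

section adm

variable (a : Adm S L B) (hc : IsCharacteristicTwoType G)
  (f : ∀ i, Fl S (VB (S : Subgroup G) B) (F i) (T i))
  (p : ∀ i, Par (VB (S : Subgroup G) B) (F i) (T i) (X i))
  (h2 : ∀ i, Two (VB (S : Subgroup G) B) (X i)) (hSne : (S : Subgroup G) ≠ ⊥)
  (hloc : ∃ R : Subgroup G, R ≠ ⊥ ∧ IsPGroup 2 R ∧ JB B X ≤ normalizer (R : Set G))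
include a hc f p h2 hSne hloc

/-- **THEOREM BETA2 for a family**, for an admissible `B` -/
theorem fam_adm (hn : NotFF (zl (S : Subgroup G) (JB B X))) :
    VL (S : Subgroup G) (LH (S : Subgroup G) (JB B X)) ≤ o2 (centralizer (zc (S : Subgroup G) : Set G)) := by
  by_contra hV
  obtain ⟨F₁, t, h1, h3⟩ := exists_btF_adm a hc f p hloc h2 hSne hn hV
  exact t.false (H := JB B X) (sup_le le_sup_right le_sup_left) NB_le_JB X_le_JB h1 h3

/-- `B` minimal admissible: `V_J` is FF for every nonempty family of panels with two noncentral factors. -/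
theorem ff_adm [Nonempty ι] (hmin : ∀ B', Adm S L B' → B' ≤ B → B' = B) :
    ¬ NotFF (zl (S : Subgroup G) (JB B X)) := by
  intro hn
  obtain ⟨h1, h3, h4⟩ := closed_adm a hc f p hloc hn (fam_adm a hc f p h2 hSne hloc hn)
  exact h4 (hmin _ h1 h3)

end adm

end Cfsg.Agent.Omega.NO3b.BetaTwo

end

section


/-!
# THEOREM BETA2 in the frame `LocG` (NO-3L and NO-3S)

`LocG S M B`, `V = VB S B`:

* `LocG.gam_fam` : `V_J`, `J = ⟨N_G(B), X i⟩`, is FF for every nonempty family of panels over `Z`;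
* `LocG.gam` : `V_H`, `H = ⟨N_G(B), X⟩`, is FF for every panel over `Z`.
-/

set_option autoImplicit false

namespace Cfsg.Agent.Omega.NOThreeL.HypGFrame.LocG

open Subgroup Cfsg
open Cfsg.Agent.ZN (o2 zc zl)
open Cfsg.Agent.Omega.NO3b.EZero (NotFF Par cl)
open Cfsg.Agent.Omega.NO3b.Alpha (Fl)
open Cfsg.Agent.Omega.NO3b.Exit (Adm Fr VB)
open Cfsg.Agent.Omega.NO3b.BetaTwo (JB ff_adm)

universe u v

variable {G : Type u} [Group G] [Finite G] {S : Sylow 2 G} {M B : Subgroup G} (h : LocG S M B)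
include h

/-- **every family of panels over `Z` has `V_J` FF** -/
theorem gam_fam (hc : IsCharacteristicTwoType G) (hSne : (S : Subgroup G) ≠ ⊥) {ι : Type v} [Nonempty ι]
    (F T X : ι → Subgroup G)
    (f : ∀ i, Fl S (VB (S : Subgroup G) B) (F i) (T i)) (hZ : ∀ i, zc (S : Subgroup G) ≤ F i)
    (p : ∀ i, Par (VB (S : Subgroup G) B) (F i) (T i) (X i)) :
    ¬ NotFF (zl (S : Subgroup G) (JB B X)) := by
  have h2 : ∀ i, NO3b.K0.Mix.Two (VB (S : Subgroup G) B) (X i) := fun i => h.two hc hSne (f i) (hZ i) (p i)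
  refine ff_adm h.adm hc f p h2 hSne ?_ h.min
  obtain ⟨R, hR, hR2, h3, h4⟩ := NO3b.Exit.exists_loc_fam FFBr.aStmt hc h.adm.lines F T X f p h2
  rw [h.adm.cs] at h3
  exact ⟨R, hR, hR2, sup_le h3 (iSup_le h4)⟩

/-- **every panel over `Z` has `V_H` FF** -/
theorem gam (hc : IsCharacteristicTwoType G) (hSne : (S : Subgroup G) ≠ ⊥) {F T X : Subgroup G}
    (f : Fl S (VB (S : Subgroup G) B) F T) (hZ : zc (S : Subgroup G) ≤ F)
    (p : Par (VB (S : Subgroup G) B) F T X) :
    ¬ NotFF (zl (S : Subgroup G) (normalizer (B : Set G) ⊔ X)) := by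
  have h1 := h.gam_fam hc hSne (ι := Unit) (fun _ => F) (fun _ => T) (fun _ => X) (fun _ => f) (fun _ => hZ)
    fun _ => p
  have e : JB B (fun _ : Unit => X) = normalizer (B : Set G) ⊔ X := by
    rw [JB, iSup_const]
  rwa [e] at h1

end Cfsg.Agent.Omega.NOThreeL.HypGFrame.LocG

end

section


/-!
# 3L-T (B), the frame: case (γ) for a family of panels, the M-side in any `V_H`

`Adm S L B`, `M = N_G(B)`, `V = VB S B`, panels `(F i, T i, X i)`, `J = JB B X = ⟨M, X i⟩`.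

* `exists_opt_JB` : `V_J` FF gives an optimal offender `A ≤ B` of `V_J` and an `i` with `A ≰ O₂(X i)`;
* `sitH`, `mxH` : for every `H ≥ M, X` of characteristic 2 and an optimal offender `A ≤ B` of `V_H`, `A ≰ O₂(X)`: the
  M-side frame `MX` in the module `V_H`;
* `BlkOf`, `blkH` : the blocks `Blk0` in the module `V_H`.
-/

set_option autoImplicit false
set_option linter.unusedSectionVars false

namespace Cfsg.Agent.Omega.NO3b.BasePt

open Subgroup Cfsg
open Cfsg.Agent.ZN (o2 zc zl)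
open Cfsg.Agent.ZN.ChoiceBase hiding mem_zc
open Cfsg.Agent.ZN.ChoiceSit (Syl o2_le_syl syl_not_dvd)
open Cfsg.Agent.MinSimple.EmptyTI (syl_of_le)
open Cfsg.Agent.Omega.NO3b.EZero (NotFF Par cent_symm cj_cent cl le_cl cj_le_cl cl_le le_normalizer_cl)
open Cfsg.Agent.Omega.NO3b.Alpha (Fl)
open Cfsg.Agent.Omega.NO3b.Wc
open Cfsg.Agent.Omega.NO3b.Exit
open Cfsg.Agent.Omega.NO3b.Exit.Bridge
open Cfsg.Agent.Omega.NO3b.Exit.TDat (MX Red mx_of_tight sbc FFq ncl KV)
open Cfsg.Agent.Omega.NO3b.Exit.BlkZ (Blk0)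
open Cfsg.Agent.Omega.NO3b.Exit.TT (nf)
open Cfsg.Agent.Omega.NO3b.K0.Mix (Pan Two)
open Cfsg.Agent.Omega.NO3b.BetaTwo (JB)
open Cfsg.Agent.Omega.NOThreeL.Star (Opt exists_opt)
open Cfsg.Agent.Omega.FFBr (XX pr im mem_im)
open Cfsg.Agent.Omega.FF.Basic (fx)
open Cfsg.Agent.MinSimple.VModule (zc_le_zl le_normalizer_zl zl_le le_normalizer_o2 le_o2 mem_normalizer_of_map_le
  le_centralizer_zc)
open scoped Pointwise

universe u v

variable {G : Type u} [Group G] [Finite G] {S : Sylow 2 G} {L B : Subgroup G}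

/-! ### (γ) for a family -/

section fam

variable {ι : Type v} {F T X : ι → Subgroup G}

/-- `C_T(U) ≤ O₂(X)` in the form needed here -/
theorem le_o2_of_cent {F T X : Subgroup G} (a : Adm S L B) (hc : IsCharacteristicTwoType G)
    (f : Fl S (VB (S : Subgroup G) B) F T) (p : Par (VB (S : Subgroup G) B) F T X) {D : Subgroup G} (hDB : D ≤ B)
    (hD : D ≤ centralizer (cl (VB (S : Subgroup G) B) X : Set G)) : D ≤ o2 X := by
  have l := a.lines
  have pn : Pan (VB (S : Subgroup G) B) F T X (normalizer (B : Set G)) B := by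
    have h1 := Exit.pan f l p fun g hg => Alpha.ti hc l g hg
    rwa [a.cs] at h1
  have hBT : B ≤ T := by
    have hQ := f.Q0_le
    rwa [a.cs] at hQ
  exact pn.le_o2_of_cent_U (S.isPGroup'.to_le (hDB.trans a.wc.le)) ((hDB.trans hBT).trans p.T_le) hD

/-- **(γ)** for a family of panels. -/
theorem exists_opt_JB (a : Adm S L B) (hc : IsCharacteristicTwoType G)
    (f : ∀ i, Fl S (VB (S : Subgroup G) B) (F i) (T i))
    (p : ∀ i, Par (VB (S : Subgroup G) B) (F i) (T i) (X i))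
    (hloc : ∃ R : Subgroup G, R ≠ ⊥ ∧ IsPGroup 2 R ∧ JB B X ≤ normalizer (R : Set G))
    (hff : ¬ NotFF (zl (S : Subgroup G) (JB B X))) :
    ∃ A, Opt (zl (S : Subgroup G) (JB B X)) A ∧ A ≤ B ∧ ∃ i, ¬ A ≤ o2 (X i) := by
  set J := JB B X with hJ
  have hMJ : normalizer (B : Set G) ≤ J := BetaTwo.NB_le_JB
  have hXJ : ∀ i, X i ≤ J := BetaTwo.X_le_JB
  have hSJ : (S : Subgroup G) ≤ J := BetaTwo.S_le_JB a
  have char2 : J ⊓ centralizer (o2 J : Set G) ≤ o2 J := BetaTwo.char2_JB a hc hloc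
  have hVJ : VB (S : Subgroup G) B ≤ zl (S : Subgroup G) J := BetaTwo.V_le_JB a
  have hUJ : ∀ i, cl (VB (S : Subgroup G) B) (X i) ≤ zl (S : Subgroup G) J := fun i => cl_le fun x hx =>
    (cj_le_cl (V := VB (S : Subgroup G) B) (hXJ i hx)).trans (BetaTwo.cl_le_JB a)
  have hVc := zl_cent hSJ char2
  -- best offenders centralise `V`
  have hAV : ∀ A, Opt (zl (S : Subgroup G) J) A → A ≤ (S : Subgroup G) → A ≤ B := by
    intro A hA hAS
    refine le_trans (le_inf hAS ?_) a.cs.le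
    by_contra hne
    have hoff := offM_of_opt hA hVc hVJ hne
    have h3 := a.nff A hA.pg (hAS.trans a.lines.S_le) hoff.sq hoff.comm hne
    exact absurd (FFThm.relIndex_le_iff.1 hoff.le) (not_le.2 h3)
  obtain ⟨A0, hA0⟩ := exists_opt hff
  obtain ⟨n, hn, hnS⟩ := FFThm.exists_conj_le S (hSJ.trans (le_normalizer_zl _ _)) hA0.pg hA0.norm
  set Fam : Set (Subgroup G) := {D | D = (S : Subgroup G) ⊓ centralizer (zl (S : Subgroup G) J : Set G) ∨
      Opt (zl (S : Subgroup G) J) D ∧ D ≤ (S : Subgroup G)} with hFam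
  have hCB : (S : Subgroup G) ⊓ centralizer (zl (S : Subgroup G) J : Set G) ≤ B :=
    (inf_le_inf_left _ (centralizer_le hVJ)).trans a.cs.le
  have hFamB : ∀ D ∈ Fam, D ≤ B := by
    rintro D (rfl | ⟨h1, h2⟩)
    · exact hCB
    · exact hAV D h1 h2
  have hcl : ∀ g ∈ J, (∀ D ∈ Fam, cj g D ≤ (S : Subgroup G)) → ∀ D ∈ Fam, cj g D ≤ sSup Fam := by
    rintro g hg hgS D (rfl | ⟨h1, h2⟩)
    · refine le_trans (le_inf (hgS _ (Or.inl rfl)) ?_) (le_sSup (Or.inl rfl))
      rw [cj_inf, cj_centralizer, cj_eq_of_mem_normalizer (le_normalizer_zl _ _ hg)]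
      exact inf_le_right
    · exact le_sSup (a := cj g D) (Or.inr ⟨h1.cj (le_normalizer_zl _ _ hg), hgS D (Or.inr ⟨h1, h2⟩)⟩)
  have hex : ∃ i, ∃ D ∈ Fam, ¬ D ≤ o2 (X i) := by
    by_contra hcon
    push Not at hcon
    have hKB : sSup Fam ≤ B := sSup_le hFamB
    have hKS : sSup Fam ≤ (S : Subgroup G) := hKB.trans a.wc.le
    have hcl' : ∀ g ∈ J, cj g (sSup Fam) ≤ (S : Subgroup G) → cj g (sSup Fam) ≤ sSup Fam := by
      intro g hg hgS
      rw [cj_sSup]
      exact iSup_le fun D => hcl g hg (fun D hD => (cj_mono g (le_sSup hD)).trans hgS) D D.2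
    have hcore : sSup Fam ≤ o2 J := by
      refine le_o2 (hKS.trans hSJ) (S.isPGroup'.to_le hKS) (sup_le ?_ (iSup_le fun i => ?_))
      · intro m hm
        refine mem_normalizer_of_map_le (hcl' m (hMJ hm) ?_)
        have h1 := cj_mono m hKB
        rw [cj_eq_of_mem_normalizer hm] at h1
        exact h1.trans a.wc.le
      · intro x hx
        refine mem_normalizer_of_map_le (hcl' x (hXJ i hx) ?_)
        have h1 := cj_mono x (sSup_le (hcon i) : sSup Fam ≤ o2 (X i))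
        rw [cj_eq_of_mem_normalizer (le_normalizer_o2 _ hx)] at h1
        exact h1.trans ((o2_le_syl ((f i).sylX (p i))).trans (f i).T_le)
    exact (hA0.cj hn).ne (((le_sSup (a := cj n A0) (Or.inr ⟨hA0.cj hn, hnS⟩)).trans hcore).trans (o2_cent hSJ char2))
  obtain ⟨i, D, hD, hDX⟩ := hex
  rcases hD with rfl | ⟨h1, h2⟩
  · exact absurd (le_o2_of_cent a hc (f i) (p i) hCB (inf_le_right.trans (centralizer_le (hUJ i)))) hDX
  · exact ⟨D, h1, hAV D h1 h2, i, hDX⟩

end fam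

/-! ### the M-side in `V_H` -/

section mx

variable {F T X H : Subgroup G} (a : Adm S L B) (hc : IsCharacteristicTwoType G)
  (f : Fl S (VB (S : Subgroup G) B) F T) (p : Par (VB (S : Subgroup G) B) F T X)
  (hM : normalizer (B : Set G) ≤ H) (hX : X ≤ H) (hH : H ⊓ centralizer (o2 H : Set G) ≤ o2 H)

omit [Finite G] in
/-- `H` normalises `V_H` -/
theorem nH (S : Subgroup G) (H : Subgroup G) : H ≤ normalizer (zl S H : Set G) := le_normalizer_zl _ _

include a hM hH in
theorem cH : zl (S : Subgroup G) H ≤ centralizer (zl (S : Subgroup G) H : Set G) :=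
  zl_cent ((wc_S_le a.wc).trans hM) hH

omit [Finite G] in
include hM in
theorem V_le_H (S : Subgroup G) : VB S B ≤ zl S H := NOThreeL.Star.zl_mono _ hM

include a hc f p hM hX hH

/-- the panel acts on `V_H` -/
theorem sitH : Sit (VB (S : Subgroup G) B) F T X (zl (S : Subgroup G) H) :=
  Sit.of_fl hc a.lines f p (cH a hM hH) (zl_sq' ((wc_S_le a.wc).trans hM) hH) (V_le_H hM _)
    (hX.trans (le_normalizer_zl _ _))

/-- the M-side frame in the module `V_H`, for every line moved by `A` -/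
theorem mxH' {A : Subgroup G} (hA : Opt (zl (S : Subgroup G) H) A) (hAB : A ≤ B)
    (hAX : ¬ A ≤ o2 X) (h2 : Two (VB (S : Subgroup G) B) X)
    {x : ↥(im (nH (S : Subgroup G) H) X)}
    (hx : ¬ imx (nH (S : Subgroup G) H) X A ≤
      nf _ (sm x (ad (cH a hM hH) (VB (S : Subgroup G) B)))) :
    MX (im (nH (S : Subgroup G) H) (normalizer (B : Set G))) (im (nH (S : Subgroup G) H) X)
      (im (nH (S : Subgroup G) H) B) (im (nH (S : Subgroup G) H) A)
      (ad (cH a hM hH) (VB (S : Subgroup G) B)) (ad (cH a hM hH) F) (x : XX (nH (S : Subgroup G) H)) := by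
  have s := sitH a hc f p hM hX hH
  have hSM : (S : Subgroup G) ≤ normalizer (B : Set G) := wc_S_le a.wc
  have hBT : B ≤ T := by
    have hQ := f.Q0_le
    rwa [a.cs] at hQ
  have hBV : B ≤ centralizer (VB (S : Subgroup G) B : Set G) :=
    a.cs.symm.le.trans (inf_le_right (a := (S : Subgroup G)))
  obtain ⟨P, hP⟩ := s.exists_syl (nH (S : Subgroup G) H) hX
  have hAT : A ≤ T := hAB.trans hBT
  have hAXX : A ≤ X := hAT.trans s.syl.1
  have e : (imx (nH (S : Subgroup G) H) X A).map (im (nH (S : Subgroup G) H) X).subtype =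
      im (nH (S : Subgroup G) H) A := by
    unfold imx
    rw [subgroupOf_map_subtype]
    exact inf_eq_left.2 (LocBar.im_mono _ hAXX)
  have key := mx_of_tight (faith (hc := s.cm) (nH (S : Subgroup G) H)) (s.datU (nH (S : Subgroup G) H) hX hP)
    (s.mbu (nH (S : Subgroup G) H) hX hA hAT hAX) (by
      intro h0
      refine s.two_ne hA hAT hAX h2 fun a ha => ?_
      have h1 : phi (nH (S : Subgroup G) H) hX ⟨a, hAXX ha.1⟩ ∈
          imx (nH (S : Subgroup G) H) X A ⊓ pCore 2 ↥(im (nH (S : Subgroup G) H) X) :=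
        ⟨phi_mem_imx _ hX ha.1, (s.mem_core_iff _ hX (hAT ha.1)).2 ha.2⟩
      rw [h0, mem_bot] at h1
      exact (phi_eq_one _ hX).1 h1)
    (M := im (nH (S : Subgroup G) H) (normalizer (B : Set G)))
    (D := im (nH (S : Subgroup G) H) B)
    (fun m hm v hv => LocBar.im_smul _ (le_normalizer_zl _ _) hm hv)
    (LocBar.im_mono _ (hBT.trans s.syl.1)) (by rw [e]; exact LocBar.im_mono _ hAB)
    (fun m hm d hd => LocBar.im_conj _ le_rfl hm hd)
    (fun d hd v hv => LocBar.im_fix _ hBV hd hv) (by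
      rw [← s.core_eq (nH (S : Subgroup G) H) hX]
      unfold imx
      rw [subgroupOf_map_subtype]
      refine inf_le_left.trans (LocBar.im_mono _ ?_)
      exact (o2_le_syl s.syl).trans (f.T_le.trans hSM))
      (LocBar.red_im (S := (S : Subgroup G)) (Z := zc (S : Subgroup G)) (nH (S : Subgroup G) H) hM (syl_of_le hSM)
        (V_le_H hM _) (le_normalizer_zl _ _) (zc_le_zl _ _) (le_centralizer_zc _) fun _ hW hWM => zl_le hW hWM) hx
  rwa [e] at key

/-- the M-side frame in the module `V_H` -/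
theorem mxH {A : Subgroup G} (hA : Opt (zl (S : Subgroup G) H) A) (hAB : A ≤ B)
    (hAX : ¬ A ≤ o2 X) (h2 : Two (VB (S : Subgroup G) B) X) :
    ∃ x ∈ im (nH (S : Subgroup G) H) X, MX (im (nH (S : Subgroup G) H) (normalizer (B : Set G)))
      (im (nH (S : Subgroup G) H) X) (im (nH (S : Subgroup G) H) B) (im (nH (S : Subgroup G) H) A)
      (ad (cH a hM hH) (VB (S : Subgroup G) B)) (ad (cH a hM hH) F) x := by
  have s := sitH a hc f p hM hX hH
  have hBT : B ≤ T := by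
    have hQ := f.Q0_le
    rwa [a.cs] at hQ
  obtain ⟨x, hx⟩ := (s.tight (nH (S : Subgroup G) H) hX hA (hAB.trans hBT) hAX).ex
  exact ⟨x, x.2, mxH' a hc f p hM hX hH hA hAB hAX h2 hx⟩

end mx

/-- The blocks of `V` for the panel with flat `F`, in the module `V_H`. -/
def BlkOf (S : Subgroup G) (B F H : Subgroup G) (hU : zl S H ≤ centralizer (zl S H : Set G)) : Prop :=
  ∃ (BB : Subgroup (XX (nH S H))) (Lw C : AddSubgroup (MU hU)) (x : XX (nH S H))
    (hV : ∀ m ∈ im (nH S H) (normalizer (B : Set G)), ∀ v ∈ ad hU (VB S B), m • v ∈ ad hU (VB S B)),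
    Blk0 (sbc (im (nH S H) (normalizer (B : Set G))) (FFq (im (nH S H) (normalizer (B : Set G))) (ad hU F)))
      (FFq (im (nH S H) (normalizer (B : Set G))) (ad hU F)) BB (ad hU (VB S B)) (ad hU F) Lw C x
      (im (nH S H) (normalizer (B : Set G))) (KV (im (nH S H) (normalizer (B : Set G))) (ad hU (VB S B)) hV)
      (im (nH S H) S)

section blk

variable {F T X H : Subgroup G} (a : Adm S L B) (hc : IsCharacteristicTwoType G)
  (f : Fl S (VB (S : Subgroup G) B) F T) (p : Par (VB (S : Subgroup G) B) F T X)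
  (hM : normalizer (B : Set G) ≤ H) (hX : X ≤ H) (hH : H ⊓ centralizer (o2 H : Set G) ≤ o2 H)
include a hc f p hM hX hH

theorem blkH {A : Subgroup G} (hA : Opt (zl (S : Subgroup G) H) A) (hAB : A ≤ B)
    (hAX : ¬ A ≤ o2 X) (h2 : Two (VB (S : Subgroup G) B) X) :
    BlkOf (S : Subgroup G) B F H (cH a hM hH) := by
  obtain ⟨x, -, m⟩ := mxH a hc f p hM hX hH hA hAB hAX h2
  have hSM : (S : Subgroup G) ≤ normalizer (B : Set G) := wc_S_le a.wc
  exact ⟨_, _, _, _, _, Chain.blk0 m (LocBar.im_mono _ hSM) (Chain.S2_bar _)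
    (syl_not_dvd (LocBar.syl_im (nH (S : Subgroup G) H) (syl_of_le hSM) hM))
    (Chain.gen_bar _ _ hM (V_le_H hM _) (zc_le_zl _ _) fun _ hW hWM => zl_le hW hWM)⟩

end blk

end Cfsg.Agent.Omega.NO3b.BasePt

end

section


/-!
# The offender of `V_J` for a family of panels (helper957's (B3), helper506 #21336 (A), (B))

`B` admissible, `V = VB S B`, panels `(F i, T i, X i)` of `V`, `J = JB B X = ⟨N_G(B), X i⟩` 2-local, `V_J = zl S J` FF:

* `exists_opt_adm` : an optimal offender `A ≤ B` of `V_J` with `A ≰ O₂(X i)` for some `i`;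
* `LocG.exists_opt_fam`, `LocG.loc_fam` : the same in the frame `LocG` for a family of panels over `Z`
  (`V_J` is FF by THEOREM BETA2, `J` is local by the mixed K0);
* `LocG.exists_opt_pair`, `LocG.loc_pair`, `LocG.ff_pair` : two panels, `J = ⟨M(L), X, X'⟩`, `L = N_G(B)`.
-/

set_option autoImplicit false

namespace Cfsg.Agent.Omega.NO3b.BetaTwo

open Subgroup Cfsg
open Cfsg.Agent.ZN (o2 zc zl)
open Cfsg.Agent.ZN.ChoiceBase hiding mem_zc
open Cfsg.Agent.ZN.ChoiceSit (o2_le_syl)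
open Cfsg.Agent.Omega.NO3b.EZero (NotFF Par cent_symm cj_cent cl le_cl cj_le_cl cl_le le_normalizer_cl)
open Cfsg.Agent.Omega.NO3b.Alpha (Fl)
open Cfsg.Agent.Omega.NO3b.Wc
open Cfsg.Agent.Omega.NO3b.Exit
open Cfsg.Agent.Omega.NO3b.Chain
open Cfsg.Agent.Omega.NO3b.K0.Mix (Pan SM Two)
open Cfsg.Agent.Omega.NOThreeL.Star (Opt Ok exists_opt)
open Cfsg.Agent.MinSimple.VModule (zc_le_zl le_normalizer_zl zl_le le_normalizer_o2 le_o2 mem_normalizer_of_map_le)

universe u v

variable {G : Type u} [Group G] [Finite G] {S : Sylow 2 G} {L B : Subgroup G} {ι : Type v}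
  {F T X : ι → Subgroup G}

/-- **an optimal offender of `V_J` in `B`, not in `O₂(X i)` for some `i`** -/
theorem exists_opt_adm (a : Adm S L B) (hc : IsCharacteristicTwoType G)
    (f : ∀ i, Fl S (VB (S : Subgroup G) B) (F i) (T i))
    (p : ∀ i, Par (VB (S : Subgroup G) B) (F i) (T i) (X i))
    (hloc : ∃ R : Subgroup G, R ≠ ⊥ ∧ IsPGroup 2 R ∧ JB B X ≤ normalizer (R : Set G))
    (hff : ¬ NotFF (zl (S : Subgroup G) (JB B X))) :
    ∃ A : Subgroup G, Opt (zl (S : Subgroup G) (JB B X)) A ∧ A ≤ B ∧ ∃ i, ¬ A ≤ o2 (X i) := by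
  set V := VB (S : Subgroup G) B with hVd
  set J := JB B X with hJ
  have l := a.lines
  have hMJ : normalizer (B : Set G) ≤ J := NB_le_JB
  have hXJ : ∀ i, X i ≤ J := X_le_JB
  have hSJ : (S : Subgroup G) ≤ J := S_le_JB a
  have char2 : J ⊓ centralizer (o2 J : Set G) ≤ o2 J := char2_JB a hc hloc
  have pn : ∀ i, Pan V (F i) (T i) (X i) (normalizer (B : Set G)) B := fun i => by
    have h1 := pan (f i) l (p i) fun g hg => Alpha.ti hc l g hg
    rwa [a.cs] at h1
  have hBT : ∀ i, B ≤ T i := fun i => by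
    have hQ := (f i).Q0_le
    rwa [a.cs] at hQ
  have hVc := zl_cent hSJ char2
  have hVJ : V ≤ zl (S : Subgroup G) J := V_le_JB a
  have hVH : cl V J ≤ zl (S : Subgroup G) J := cl_le_JB a
  have hUH : ∀ i, cl V (X i) ≤ zl (S : Subgroup G) J := fun i => cl_le fun x hx =>
    (cj_le_cl (V := V) (hXJ i hx)).trans hVH
  -- best offenders centralise `V`
  have hAV : ∀ A, Opt (zl (S : Subgroup G) J) A → A ≤ (S : Subgroup G) → A ≤ B := by
    intro A hA hAS
    refine le_trans (le_inf hAS ?_) a.cs.le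
    by_contra hne
    have hoff := offM_of_opt hA hVc hVJ hne
    have h3 := a.nff A hA.pg (hAS.trans a.lines.S_le) hoff.sq hoff.comm hne
    exact absurd (FFThm.relIndex_le_iff.1 hoff.le) (not_le.2 h3)
  have hQB : (S : Subgroup G) ⊓ centralizer (zl (S : Subgroup G) J : Set G) ≤ B :=
    (inf_le_inf_left _ (centralizer_le hVJ)).trans a.cs.le
  obtain ⟨A0, hA0⟩ := exists_opt hff
  obtain ⟨n, hn, hnS⟩ := FFThm.exists_conj_le S (hSJ.trans (le_normalizer_zl _ _)) hA0.pg hA0.norm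
  set Fam : Set (Subgroup G) := {D | D = (S : Subgroup G) ⊓ centralizer (zl (S : Subgroup G) J : Set G) ∨
      Opt (zl (S : Subgroup G) J) D ∧ D ≤ (S : Subgroup G)} with hFam
  have hFamB : ∀ D ∈ Fam, D ≤ B := by
    rintro D (rfl | ⟨h1, h2⟩)
    · exact hQB
    · exact hAV D h1 h2
  have hcl : ∀ g ∈ J, (∀ D ∈ Fam, cj g D ≤ (S : Subgroup G)) → ∀ D ∈ Fam, cj g D ≤ sSup Fam := by
    rintro g hg hgS D (rfl | ⟨h1, h2⟩)
    · refine le_trans (le_inf (hgS _ (Or.inl rfl)) ?_) (le_sSup (Or.inl rfl))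
      rw [cj_inf, cj_centralizer, cj_eq_of_mem_normalizer (le_normalizer_zl _ _ hg)]
      exact inf_le_right
    · exact le_sSup (a := cj g D) (Or.inr ⟨h1.cj (le_normalizer_zl _ _ hg), hgS D (Or.inr ⟨h1, h2⟩)⟩)
  have hex : ∃ i, ∃ D ∈ Fam, ¬ D ≤ o2 (X i) := by
    by_contra hcon
    push Not at hcon
    have hKB : sSup Fam ≤ B := sSup_le hFamB
    have hKS : sSup Fam ≤ (S : Subgroup G) := hKB.trans a.wc.le
    have hcl' : ∀ g ∈ J, cj g (sSup Fam) ≤ (S : Subgroup G) → cj g (sSup Fam) ≤ sSup Fam := by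
      intro g hg hgS
      rw [cj_sSup]
      exact iSup_le fun D => hcl g hg (fun D hD => (cj_mono g (le_sSup hD)).trans hgS) D D.2
    have hcore : sSup Fam ≤ o2 J := by
      refine le_o2 (hKS.trans hSJ) (S.isPGroup'.to_le hKS) (sup_le ?_ (iSup_le fun i => ?_))
      · intro m hm
        refine mem_normalizer_of_map_le (hcl' m (hMJ hm) ?_)
        have h1 := cj_mono m hKB
        rw [cj_eq_of_mem_normalizer hm] at h1
        exact h1.trans a.wc.le
      · intro x hx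
        refine mem_normalizer_of_map_le (hcl' x (hXJ i hx) ?_)
        have h1 := cj_mono x (sSup_le (hcon i) : sSup Fam ≤ o2 (X i))
        rw [cj_eq_of_mem_normalizer (le_normalizer_o2 _ hx)] at h1
        exact h1.trans ((o2_le_syl ((f i).sylX (p i))).trans (f i).T_le)
    exact (hA0.cj hn).ne (((le_sSup (a := cj n A0) (Or.inr ⟨hA0.cj hn, hnS⟩)).trans hcore).trans
      (o2_cent hSJ char2))
  obtain ⟨i, D, hD, hDX⟩ := hex
  rcases hD with rfl | ⟨h1, h2⟩
  · exact absurd ((pn i).le_o2_of_cent_U (S.isPGroup'.to_le (hQB.trans a.wc.le))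
      ((hQB.trans (hBT i)).trans (p i).T_le) (inf_le_right.trans (centralizer_le (hUH i)))) hDX
  · exact ⟨D, h1, hAV D h1 h2, i, hDX⟩

end Cfsg.Agent.Omega.NO3b.BetaTwo

namespace Cfsg.Agent.Omega.NOThreeL.HypGFrame.LocG

open Subgroup Cfsg
open Cfsg.Agent.ZN (o2 zc zl)
open Cfsg.Agent.Omega.NO3b.EZero (NotFF Par cl)
open Cfsg.Agent.Omega.NO3b.Alpha (Fl)
open Cfsg.Agent.Omega.NO3b.Wc (ML VL WH)
open Cfsg.Agent.Omega.NO3b.Exit (Adm Fr VB)
open Cfsg.Agent.Omega.NO3b.BetaTwo (JB exists_opt_adm)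
open Cfsg.Agent.Omega.NOThreeL.Star (Opt)

universe u v

variable {G : Type u} [Group G] [Finite G] {S : Sylow 2 G} {M B : Subgroup G} (h : LocG S M B)
include h

/-- **`J = ⟨N_G(B), X i⟩` is 2-local for every family of panels over `Z`** -/
theorem loc_fam (hc : IsCharacteristicTwoType G) (hSne : (S : Subgroup G) ≠ ⊥) {ι : Type v} [Nonempty ι]
    (F T X : ι → Subgroup G)
    (f : ∀ i, Fl S (VB (S : Subgroup G) B) (F i) (T i)) (hZ : ∀ i, zc (S : Subgroup G) ≤ F i)
    (p : ∀ i, Par (VB (S : Subgroup G) B) (F i) (T i) (X i)) :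
    ∃ R : Subgroup G, R ≠ ⊥ ∧ IsPGroup 2 R ∧ JB B X ≤ normalizer (R : Set G) := by
  have h2 : ∀ i, NO3b.K0.Mix.Two (VB (S : Subgroup G) B) (X i) := fun i => h.two hc hSne (f i) (hZ i) (p i)
  obtain ⟨R, hR, hR2, h3, h4⟩ := NO3b.Exit.exists_loc_fam FFBr.aStmt hc h.adm.lines F T X f p h2
  rw [h.adm.cs] at h3
  exact ⟨R, hR, hR2, sup_le h3 (iSup_le h4)⟩

/-- **an optimal offender `A ≤ B` of `V_J`, not in `O₂(X i)` for some `i`** -/
theorem exists_opt_fam (hc : IsCharacteristicTwoType G) (hSne : (S : Subgroup G) ≠ ⊥) {ι : Type v} [Nonempty ι]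
    (F T X : ι → Subgroup G)
    (f : ∀ i, Fl S (VB (S : Subgroup G) B) (F i) (T i)) (hZ : ∀ i, zc (S : Subgroup G) ≤ F i)
    (p : ∀ i, Par (VB (S : Subgroup G) B) (F i) (T i) (X i)) :
    ∃ A : Subgroup G, Opt (zl (S : Subgroup G) (JB B X)) A ∧ A ≤ B ∧ ∃ i, ¬ A ≤ o2 (X i) :=
  exists_opt_adm h.adm hc f p (h.loc_fam hc hSne F T X f hZ p) (h.gam_fam hc hSne F T X f hZ p)

section pair

variable (hc : IsCharacteristicTwoType G) (hSne : (S : Subgroup G) ≠ ⊥) {F T X F' T' X' : Subgroup G}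
  (f : Fl S (VB (S : Subgroup G) B) F T) (hZ : zc (S : Subgroup G) ≤ F) (p : Par (VB (S : Subgroup G) B) F T X)
  (f' : Fl S (VB (S : Subgroup G) B) F' T') (hZ' : zc (S : Subgroup G) ≤ F')
  (p' : Par (VB (S : Subgroup G) B) F' T' X')

omit [Finite G] h in
theorem JB_pair (B X X' : Subgroup G) :
    JB B (fun b : Bool => if b then X else X') = normalizer (B : Set G) ⊔ (X ⊔ X') := by
  rw [JB, iSup_bool_eq]
  rfl

include hc hSne f hZ p f' hZ' p'

/-- two panels: `J = ⟨M(L), X, X'⟩`, `L = N_G(B)`, is 2-local -/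
theorem loc_pair : ∃ R : Subgroup G, R ≠ ⊥ ∧ IsPGroup 2 R ∧
    ML (S : Subgroup G) (normalizer (B : Set G)) ⊔ (X ⊔ X') ≤ normalizer (R : Set G) := by
  have h1 := h.loc_fam hc hSne (ι := Bool) (fun b => if b then F else F') (fun b => if b then T else T')
    (fun b => if b then X else X') (by rintro (_ | _); exacts [f', f]) (by rintro (_ | _); exacts [hZ', hZ])
    (by rintro (_ | _); exacts [p', p])
  rwa [JB_pair, ← h.ML_eq] at h1

/-- two panels: `V_J` is FF -/
theorem ff_pair : ¬ NotFF (zl (S : Subgroup G) (ML (S : Subgroup G) (normalizer (B : Set G)) ⊔ (X ⊔ X'))) := by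
  have h1 := h.gam_fam hc hSne (ι := Bool) (fun b => if b then F else F') (fun b => if b then T else T')
    (fun b => if b then X else X') (by rintro (_ | _); exacts [f', f]) (by rintro (_ | _); exacts [hZ', hZ])
    (by rintro (_ | _); exacts [p', p])
  rwa [JB_pair, ← h.ML_eq] at h1

/-- two panels: an optimal offender `A ≤ W(L) = B` of `V_J`, `A ≰ O₂(X)` or `A ≰ O₂(X')` -/
theorem exists_opt_pair : ∃ A : Subgroup G,
    Opt (zl (S : Subgroup G) (ML (S : Subgroup G) (normalizer (B : Set G)) ⊔ (X ⊔ X'))) A ∧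
      A ≤ WH (S : Subgroup G) (normalizer (B : Set G)) ∧ (¬ A ≤ o2 X ∨ ¬ A ≤ o2 X') := by
  obtain ⟨A, h1, h2, i, h3⟩ := h.exists_opt_fam hc hSne (ι := Bool) (fun b => if b then F else F')
    (fun b => if b then T else T')
    (fun b => if b then X else X') (by rintro (_ | _); exacts [f', f]) (by rintro (_ | _); exacts [hZ', hZ])
    (by rintro (_ | _); exacts [p', p])
  rw [JB_pair, ← h.ML_eq] at h1
  refine ⟨A, h1, by rw [h.WH_eq]; exact h2, ?_⟩
  rcases i with _ | _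
  · exact Or.inr h3
  · exact Or.inl h3

end pair

end Cfsg.Agent.Omega.NOThreeL.HypGFrame.LocG

end

section


/-!
# The blocks of `V` for a panel, in any module `U` (3L-T, GammaFF (S4))

`V ≤ U` elementary abelian, `H ≤ N_G(U)`, `M₀ ≤ H`, `F ≤ V`.

* `BlkIn S V M₀ F hH hU` : the blocks `Blk0` of `V` with flat `F` in the module `U`;
* `blkIn_of_mx` : from the M-side frame `MX`;
* `PanSys S V M₀ F U H` : a family of panels with flats `F i`; panel `i` has its blocks in `U i`, and for `i`, `j` one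
  of them has its blocks in some `U' ≥ U i, U j`.
-/

set_option autoImplicit false

namespace Cfsg.Agent.Omega.NO3b.BasePt

open Subgroup Cfsg
open Cfsg.Agent.ZN.ChoiceBase hiding mem_zc
open Cfsg.Agent.Omega.NO3b.Exit.Bridge
open Cfsg.Agent.Omega.NO3b.Exit (LocBar.im_mono LocBar.isPGroup_im LocBar.syl_im)
open Cfsg.Agent.Omega.NO3b.Exit.TDat (MX sbc FFq ncl KV)
open Cfsg.Agent.Omega.NO3b.Exit.BlkZ (Blk0)
open Cfsg.Agent.Omega.NO3b.Exit.TBlk (sn_sbc_of_le)
open Cfsg.Agent.Omega.FFBr (XX im)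
open Cfsg.Agent.Omega.FF.Basic (fx)
open scoped Pointwise

universe u v w

/-- The plug `MX → Blk0`. -/
theorem blk0_of_mx {Γ : Type u} {U : Type v} [Group Γ] [Finite Γ] [AddCommGroup U] [DistribMulAction Γ U]
    {M X D A : Subgroup Γ} {V F : AddSubgroup U} {g : Γ} (h : MX M X D A V F g) {S : Subgroup Γ} (SM : S ≤ M)
    (S2 : IsPGroup 2 S) (syl : ¬ 2 ∣ S.relIndex M) :
    Blk0 (sbc M (FFq M F)) (FFq M F) (ncl (KV M V h.MV) A) V F (g • V) (fx U A) g⁻¹ M (KV M V h.MV) S where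
  dat := h.dat
  KM := fun _ hk => hk.1
  nK := fun _ hm _ hk => h.KV_norm hm hk
  mV := h.MV
  kV := fun _ hk => hk.2
  kB := fun _ hk _ hb => NO3b.Exit.TDat.ncl_conj hk hb
  sn := sn_sbc_of_le MX.FFq_le_M h.sbc_le_KV fun _ hk => hk.1
  SM := SM
  S2 := S2
  syl := syl

variable {G : Type u} [Group G]

/-- The blocks of `V` for the panel with flat `F`, in the module `U`. -/
def BlkIn (S V M₀ F : Subgroup G) {U H : Subgroup G} (hH : H ≤ normalizer (U : Set G))
    (hU : U ≤ centralizer (U : Set G)) : Prop :=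
  ∃ (BB : Subgroup (XX hH)) (Lw C : AddSubgroup (MU hU)) (x : XX hH)
    (hV : ∀ m ∈ im hH M₀, ∀ v ∈ ad hU V, m • v ∈ ad hU V),
    Blk0 (sbc (im hH M₀) (FFq (im hH M₀) (ad hU F))) (FFq (im hH M₀) (ad hU F)) BB (ad hU V) (ad hU F) Lw C x
      (im hH M₀) (KV (im hH M₀) (ad hU V) hV) (im hH S)

/-- `MX` gives the blocks -/
theorem blkIn_of_mx [Finite G] {S V M₀ F : Subgroup G} {U H : Subgroup G} {hH : H ≤ normalizer (U : Set G)}
    {hU : U ≤ centralizer (U : Set G)} {X D A : Subgroup (XX hH)} {g : XX hH}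
    (m : MX (im hH M₀) X D A (ad hU V) (ad hU F) g) (SM : S ≤ M₀) (S2 : IsPGroup 2 S)
    (syl : ¬ 2 ∣ (im hH S).relIndex (im hH M₀)) : BlkIn S V M₀ F hH hU :=
  ⟨_, _, _, _, m.MV, blk0_of_mx m (LocBar.im_mono _ SM) (LocBar.isPGroup_im _ S2) syl⟩

/-- A family of panels of `V`: panel `i` has flat `F i` and its blocks in `U i`; for `i`, `j` one of them has its
blocks in a module which contains `U i`, `U j`. -/
structure PanSys (S V M₀ : Subgroup G) {ι : Type w} (F U H : ι → Subgroup G) : Prop where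
  hH : ∀ i, H i ≤ normalizer (U i : Set G)
  hU : ∀ i, U i ≤ centralizer (U i : Set G)
  VU : ∀ i, V ≤ U i
  MH : ∀ i, M₀ ≤ H i
  FV : ∀ i, F i ≤ V
  one : ∀ i, BlkIn S V M₀ (F i) (hH i) (hU i)
  two : ∀ i j, ∃ (U' H' : Subgroup G) (hH' : H' ≤ normalizer (U' : Set G)) (hU' : U' ≤ centralizer (U' : Set G)),
    U i ≤ U' ∧ U j ≤ U' ∧ M₀ ≤ H' ∧ (BlkIn S V M₀ (F i) hH' hU' ∨ BlkIn S V M₀ (F j) hH' hU')

end Cfsg.Agent.Omega.NO3b.BasePt

end

end
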